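import Cfsg.Agent.Lib.RuBridge.Lines

/-!
# The lattice of the Rudvalis group: the action on the lines
-/

set_option autoImplicit false
set_option linter.unusedSectionVars false
set_option linter.constructorNameAsVariable false

namespace Cfsg.Agent.Lib.RuBridge

open Cfsg.Spor Cfsg.Agent.Lib.RuLat Equiv

open Cfsg.Agent.Lib.CosetCert
open Cfsg.Agent.Lib.CosetCert.D.Ru.Tbl (L0 L1)

/-- The representative in the lattice. -/
noncomputable def vL (a : Pt) : ruLattice := ⟨V a, mem_W_iff.2 (all_good a).1⟩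

theorem vL_coe (a : Pt) : ((vL a : ruLattice) : RuVec) = V a := rfl

theorem vL_norm (a : Pt) : ruNorm (vL a : RuVec) = 16 := (all_good a).2

/-- Scalars on the lattice. -/
def gs (c : GaussianInt) (v : ruLattice) : ruLattice := ⟨c • (v : RuVec), gsmul_mem c v.2⟩

theorem gs_coe (c : GaussianInt) (v : ruLattice) : ((gs c v : ruLattice) : RuVec) = c • (v : RuVec) := rfl

section Aut

variable (f : fourRu)

theorem f_spec : (∀ v w : ruLattice, f.1 (v + w) = f.1 v + f.1 w) ∧ (∀ v : ruLattice, f.1 (ruI v) = ruI (f.1 v)) ∧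
    ∀ v : ruLattice, ruNorm ((f.1 v : ruLattice) : RuVec) = ruNorm (v : RuVec) := f.2

theorem f_add (v w : ruLattice) : f.1 (v + w) = f.1 v + f.1 w := (f_spec f).1 v w

theorem f_I (v : ruLattice) : f.1 (ruI v) = ruI (f.1 v) := (f_spec f).2.1 v

theorem f_norm (v : ruLattice) : ruNorm ((f.1 v : ruLattice) : RuVec) = ruNorm (v : RuVec) := (f_spec f).2.2 v

/-- The additive map of an automorphism. -/
def fHom : ruLattice →+ ruLattice := AddMonoidHom.mk' f.1 (f_add f)

theorem f_zsmul (n : ℤ) (v : ruLattice) : f.1 (n • v) = n • f.1 v := map_zsmul (fHom f) n v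

theorem gs_eq (c : GaussianInt) (v : ruLattice) : gs c v = c.re • v + c.im • ruI v := by
  apply Subtype.ext
  funext p
  show c * (v : RuVec) p = c.re • (v : RuVec) p + c.im • (gI * (v : RuVec) p)
  apply Zsqrtd.ext <;> simp [Zsqrtd.re_mul, Zsqrtd.im_mul, gI]

theorem f_gs (c : GaussianInt) (v : ruLattice) : f.1 (gs c v) = gs c (f.1 v) := by
  rw [gs_eq, gs_eq, f_add, f_zsmul, f_zsmul, f_I]

theorem f_ip_re (x y : ruLattice) : (ip (f.1 x : RuVec) (f.1 y : RuVec)).re = (ip (x : RuVec) (y : RuVec)).re := by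
  have h1 := f_norm f (x + y)
  rw [f_add] at h1
  have h2 : ((f.1 x + f.1 y : ruLattice) : RuVec) = (f.1 x : RuVec) + (f.1 y : RuVec) := rfl
  have h3 : ((x + y : ruLattice) : RuVec) = (x : RuVec) + (y : RuVec) := rfl
  rw [h2, h3, ruNorm_add, ruNorm_add, f_norm, f_norm] at h1
  omega

theorem ip_I_re (x y : RuVec) : (ip (gI • x) y).re = - (ip x y).im := by
  rw [ip_smul_left]
  simp [Zsqrtd.re_mul, gI]

theorem f_ip (x y : ruLattice) : ip (f.1 x : RuVec) (f.1 y : RuVec) = ip (x : RuVec) (y : RuVec) := by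
  apply Zsqrtd.ext
  · exact f_ip_re f x y
  · have h1 := f_ip_re f (ruI x) y
    rw [f_I] at h1
    have h2 : ∀ z : ruLattice, ((ruI z : ruLattice) : RuVec) = gI • (z : RuVec) := fun _ => rfl
    rw [h2, h2, ip_I_re, ip_I_re] at h1
    omega

theorem f_mem_Lat (v : ruLattice) : ((f.1 v : ruLattice) : RuVec) ∈ RuLat.Lat := mem_W_iff.1 (f.1 v).2

theorem exists_sig (a : Pt) : ∃ (l : Pt) (u : ℕ), u < 4 ∧ ((f.1 (vL a) : ruLattice) : RuVec) = iP u • V l := by
  obtain ⟨l, u, hl, hu, h⟩ := cover (f_mem_Lat f (vL a)) (by rw [f_norm, vL_norm])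
  exact ⟨⟨l, hl⟩, u, hu, h⟩

/-- The action on the lines. -/
noncomputable def sig (a : Pt) : Pt := (exists_sig f a).choose

theorem sig_spec (a : Pt) : ∃ u : ℕ, u < 4 ∧ ((f.1 (vL a) : ruLattice) : RuVec) = iP u • V (sig f a) :=
  (exists_sig f a).choose_spec

theorem sig_eq {a b : Pt} {u : ℕ} (h : ((f.1 (vL a) : ruLattice) : RuVec) = iP u • V b) : sig f a = b := by
  obtain ⟨v, -, hv⟩ := sig_spec f a
  exact asc_unique (asc_of_smul (hv.symm.trans h))

end Aut

theorem sig_one (a : Pt) : sig (1 : fourRu) a = a := by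
  apply sig_eq (u := 0)
  rw [iP_zero_smul]
  rfl

theorem sig_mul (f g : fourRu) (a : Pt) : sig (f * g) a = sig f (sig g a) := by
  obtain ⟨u, -, hu⟩ := sig_spec g a
  obtain ⟨v, -, hv⟩ := sig_spec f (sig g a)
  apply sig_eq (u := u + v)
  have h1 : g.1 (vL a) = gs (iP u) (vL (sig g a)) := Subtype.ext hu
  have h2 : ((f * g).1 (vL a)) = f.1 (g.1 (vL a)) := rfl
  rw [h2, h1, f_gs, gs_coe, hv, iP_smul_smul]

/-- The action on the lines, as a map of monoids. -/
noncomputable def sigEnd : fourRu →* Function.End Pt where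
  toFun f := sig f
  map_one' := funext sig_one
  map_mul' f g := funext (sig_mul f g)

/-- The action on the lines. -/
noncomputable def rho : fourRu →* Perm Pt := MonoidHom.toHomPerm sigEnd

theorem rho_apply (f : fourRu) (a : Pt) : rho f a = sig f a := rfl

/-! ### Matrices on the lattice -/

section Lift

variable {G H cG cH : ℕ → ℕ} (hM : MatOK G H cG cH)

include hM

/-- The map of a matrix. -/
def mapG : ruLattice → ruLattice := fun v => ⟨matD G v, mem_W_iff.2 (matD_spec hM.latG (mem_W_iff.1 v.2)).1⟩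

/-- The map of the inverse of a matrix. -/
def mapH : ruLattice → ruLattice := fun v => ⟨matD H v, mem_W_iff.2 (matD_spec hM.latH (mem_W_iff.1 v.2)).1⟩

theorem mapG_coe (v : ruLattice) : ((mapG hM v : ruLattice) : RuVec) = matD G v := rfl

theorem mapH_coe (v : ruLattice) : ((mapH hM v : ruLattice) : RuVec) = matD H v := rfl

omit hM in
theorem g4_g4 (x : RuVec) : g4 • g4 • x = (⟨16, 0⟩ : GaussianInt) • x := by
  rw [smul_smul]
  rfl

theorem mapHG (v : ruLattice) : mapH hM (mapG hM v) = v := by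
  apply Subtype.ext
  rw [mapH_coe, mapG_coe]
  have hx := mem_W_iff.1 v.2
  obtain ⟨h1, h2⟩ := matD_spec hM.latG hx
  obtain ⟨-, h3⟩ := matD_spec hM.latH h1
  have h4 := matL_matL hM.invH (v : RuVec)
  rw [h2, matL_smul, h3, g4_g4] at h4
  have h5 : g4 • g4 • matD H (matD G (v : RuVec)) = g4 • g4 • (v : RuVec) := by
    rw [g4_g4, g4_g4, h4]
  exact g4_smul_inj (g4_smul_inj h5)

theorem mapGH (v : ruLattice) : mapG hM (mapH hM v) = v := by
  apply Subtype.ext
  rw [mapG_coe, mapH_coe]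
  have hx := mem_W_iff.1 v.2
  obtain ⟨h1, h2⟩ := matD_spec hM.latH hx
  obtain ⟨-, h3⟩ := matD_spec hM.latG h1
  have h4 := matL_matL hM.invG (v : RuVec)
  rw [h2, matL_smul, h3, g4_g4] at h4
  have h5 : g4 • g4 • matD G (matD H (v : RuVec)) = g4 • g4 • (v : RuVec) := by
    rw [g4_g4, g4_g4, h4]
  exact g4_smul_inj (g4_smul_inj h5)

/-- The permutation of a matrix. -/
def permG : Perm ruLattice where
  toFun := mapG hM
  invFun := mapH hM
  left_inv := mapHG hM
  right_inv := mapGH hM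

theorem permG_mem : permG hM ∈ fourRu := by
  refine ⟨fun v w => ?_, fun v => ?_, fun v => ?_⟩
  · apply Subtype.ext
    show matD G ((v : RuVec) + (w : RuVec)) = matD G v + matD G w
    have hv := mem_W_iff.1 v.2
    have hw := mem_W_iff.1 w.2
    apply g4_smul_inj
    rw [← (matD_spec hM.latG (RuLat.Lat.add_mem hv hw)).2, smul_add, ← (matD_spec hM.latG hv).2,
      ← (matD_spec hM.latG hw).2, matL_add]
  · apply Subtype.ext
    show matD G (gI • (v : RuVec)) = gI • matD G v
    have hv := mem_W_iff.1 v.2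
    apply g4_smul_inj
    rw [← (matD_spec hM.latG (RuLat.Lat.smul_mem gI hv)).2, smul_comm g4, ← (matD_spec hM.latG hv).2, matL_smul]
  · exact ruNorm_matD hM.orth hM.latG (mem_W_iff.1 v.2)

end Lift

theorem lift_elem {F : ℕ → ℕ} (hF : HasLift F) : ∃ f : fourRu, ∀ a : Pt, ∃ u : ℕ,
    ((f.1 (vL a) : ruLattice) : RuVec) = iP u • V (F a) := by
  obtain ⟨G, H, cG, cH, ph, hM, -, hr⟩ := hF
  refine ⟨⟨permG hM, permG_mem hM⟩, fun a => ⟨uInv (ph a), ?_⟩⟩
  have h1 := V_lift hr a.2
  have h2 := (matD_spec hM.latG (all_good a).1).2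
  show matD G (V a) = _
  exact g4_smul_inj (h2.symm.trans h1)

theorem letter_in_range {l : ℕ} (hl : l < 4) : L0.val l ∈ rho.range := by
  obtain ⟨f, hf⟩ := lift_elem (lift_of hl)
  refine ⟨f, ?_⟩
  ext a
  rw [rho_apply, val_coe hl]
  obtain ⟨u, hu⟩ := hf a
  have hlt : D.Ru.Tbl.F0 l a < 4060 := by
    rw [← val_coe hl]
    exact (L0.val l a).2
  have h1 : sig f a = ⟨D.Ru.Tbl.F0 l a, hlt⟩ := sig_eq f hu
  rw [h1]

theorem L0_le_range : L0.G ≤ rho.range := by
  unfold Letters.G
  rw [Subgroup.closure_le]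
  rintro g ⟨l, hl, rfl⟩
  exact letter_in_range hl

/-! ### The scalars -/

/-- Multiplication by `i`, as a permutation. -/
def permI : Perm ruLattice where
  toFun := ruI
  invFun := gs (iP 3)
  left_inv v := by
    apply Subtype.ext
    funext p
    show iP 3 * (gI * (v : RuVec) p) = (v : RuVec) p
    rw [← mul_assoc, show iP 3 * gI = 1 by decide, one_mul]
  right_inv v := by
    apply Subtype.ext
    funext p
    show gI * (iP 3 * (v : RuVec) p) = (v : RuVec) p
    rw [← mul_assoc, show gI * iP 3 = 1 by decide, one_mul]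

theorem permI_mem : permI ∈ fourRu := by
  refine ⟨fun v w => ?_, fun v => rfl, fun v => ?_⟩
  · apply Subtype.ext
    exact smul_add gI _ _
  · show ruNorm (gI • (v : RuVec)) = _
    rw [ruNorm_smul, show gI.norm = 1 by decide, one_mul]

/-- The scalar `i`. -/
def sI : fourRu := ⟨permI, permI_mem⟩

theorem sI_apply (v : ruLattice) : sI.1 v = gs (iP 1) v := rfl

theorem sI_pow (n : ℕ) (v : ruLattice) : ((sI ^ n).1 v : RuVec) = iP n • (v : RuVec) := by
  induction n generalizing v with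
  | zero =>
    rw [pow_zero, iP_zero_smul]
    rfl
  | succ n ih =>
    rw [pow_succ]
    show (((sI ^ n).1 (sI.1 v) : ruLattice) : RuVec) = _
    rw [ih, sI_apply, gs_coe, iP_smul_smul, add_comm]

theorem sI_four : sI ^ 4 = 1 := by
  apply Subtype.ext
  ext v : 1
  apply Subtype.ext
  rw [sI_pow]
  exact iP_zero_smul _

theorem sI_two : sI ^ 2 ≠ 1 := by
  intro h
  obtain ⟨h0, h1⟩ := frame_V (q := 0) (by norm_num)
  have h2 := sI_pow 2 (vL ⟨_, h0⟩)
  rw [h] at h2
  have h3 : ((1 : fourRu).1 (vL ⟨_, h0⟩) : RuVec) = V (frLab.getD 0 0) := rfl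
  rw [h3, vL_coe, h1] at h2
  have h4 := congrFun h2 (ixOf 0)
  simp only [Pi.smul_apply, Pi.single_eq_same] at h4
  exact absurd h4 (by decide)

theorem sI_order : orderOf sI = 4 := by
  have := orderOf_eq_prime_pow (p := 2) (n := 1) (x := sI) (by simpa using sI_two) (by simpa using sI_four)
  simpa using this

theorem sI_center : sI ∈ Subgroup.center fourRu := by
  rw [Subgroup.mem_center_iff]
  intro f
  apply Subtype.ext
  ext v : 1
  show f.1 (ruI v) = ruI (f.1 v)
  exact f_I f v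

theorem sI_ker : sI ∈ rho.ker := by
  rw [MonoidHom.mem_ker]
  ext a
  rw [rho_apply]
  have h1 : sig sI a = a := sig_eq (u := 1) sI rfl
  rw [h1]
  rfl

end Cfsg.Agent.Lib.RuBridge
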