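import Cfsg.Agent.Lib.RuBridge.Act

/-!
# The lattice of the Rudvalis group: a bound for the order of the group
-/

set_option autoImplicit false
set_option linter.unusedSectionVars false
set_option linter.constructorNameAsVariable false

namespace Cfsg.Agent.Lib.RuBridge

open Cfsg.Spor Cfsg.Agent.Lib.RuLat Equiv

/-! ### The numbers -/

theorem key_rel {u : ℕ} (hu : u < 4) (R : ℕ) :
    (loopS 176 P176 u colK R 0 : ℤ) = keyOf labels (iP u • vecN R) + 28 * (C168 : ℤ) := by
  rw [keyOf_eq]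
  exact loopS_val colK_length hu (keyC labels) C168 colK_ok R

theorem Kl_get {l : ℕ} (hl : l < 4060) : Kl.getD l 0 = loopS 176 P176 0 colK (Rt l) 0 % C168 := by
  have h := allI_spec Kl 0 Kl_ok l (by rw [Kl_length]; exact hl)
  rw [zero_add] at h
  exact (Nat.eq_of_beq_eq_true h).symm

theorem C168_eq : C168 = 4096 ^ 14 := by decide +kernel

theorem mem_mL {J l u t : ℕ} (hJ : J ≤ 14) (hl : l < 4060) (hu : u < 4)
    (h : (4096 : ℤ) ^ J ∣ keyOf labels (V l) - keyOf labels (iP u • V t)) : l ∈ mL J u t := by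
  have h1 := key_rel (u := 0) (by norm_num) (Rt l)
  have h2 := key_rel hu (Rt t)
  rw [iP_zero_smul] at h1
  have h3 : (((4096 ^ J : ℕ)) : ℤ) ∣ ((loopS 176 P176 0 colK (Rt l) 0 : ℕ) : ℤ) - ((loopS 176 P176 u colK (Rt t) 0 : ℕ) : ℤ) := by
    rw [h1, h2]
    push_cast
    have e : keyOf labels (vecN (Rt l)) + 28 * (C168 : ℤ) - (keyOf labels (iP u • vecN (Rt t)) + 28 * (C168 : ℤ)) =
        keyOf labels (V l) - keyOf labels (iP u • V t) := by
      unfold V
      ring
    rw [e]
    exact h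
  have h4 : loopS 176 P176 u colK (Rt t) 0 % 4096 ^ J = loopS 176 P176 0 colK (Rt l) 0 % 4096 ^ J :=
    (Nat.modEq_iff_dvd).2 h3
  have h5 : 4096 ^ J ∣ C168 := by
    rw [C168_eq]
    exact pow_dvd_pow _ hJ
  have h6 := mem_matchL (m := Nat.pow 4096 J) (T := Tk J u t) Kl 0 l (by rw [Kl_length]; exact hl) (by
    rw [Kl_get hl, Nat.pow_eq, Nat.mod_mod_of_dvd _ h5, ← h4]
    rfl)
  rw [zero_add] at h6
  exact h6

/-! ### The labels -/

/-- The point of a label. -/
def lb (i : ℕ) : Pt := Fin.ofNat 4060 (labels.getD i 0)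

theorem labels_lt : ∀ i : Fin 14, labels.getD i 0 < 4060 := by decide

theorem lb_val {i : ℕ} (hi : i < 14) : ((lb i : Pt) : ℕ) = labels.getD i 0 :=
  Nat.mod_eq_of_lt (labels_lt ⟨i, hi⟩)

/-- The elements fixing the first labels. -/
def fixN (J : ℕ) : Subgroup fourRu where
  carrier := {f | ∀ i, i < J → f.1 (vL (lb i)) = vL (lb i)}
  one_mem' := fun _ _ => rfl
  mul_mem' := by
    intro f g hf hg i hi
    show f.1 (g.1 _) = _
    rw [hg i hi, hf i hi]
  inv_mem' := by
    intro f hf i hi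
    show f.1⁻¹ _ = _
    rw [Perm.inv_eq_iff_eq, hf i hi]

theorem mem_fixN {J : ℕ} {f : fourRu} : f ∈ fixN J ↔ ∀ i, i < J → f.1 (vL (lb i)) = vL (lb i) := Iff.rfl

theorem match_of_fix {J : ℕ} (hJ : J ≤ 14) {f : fourRu} (hf : f ∈ fixN J) (t : Pt) :
    ∃ (l : Pt) (u : ℕ), u < 4 ∧ ((f.1 (vL t) : ruLattice) : RuVec) = iP (uInv u) • V l ∧ (l : ℕ) ∈ mL J u t := by
  obtain ⟨l, u', hu', hy⟩ := exists_sig f t
  refine ⟨l, uInv u', uInv_lt _, ?_, ?_⟩
  · rw [uInv_uInv hu']
    exact hy
  · apply mem_mL hJ l.2 (uInv_lt _)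
    apply keyOf_prefix
    intro i hi hil
    have hi14 : i < 14 := by omega
    have e : V (labels.getD i 0) = ((vL (lb i) : ruLattice) : RuVec) := by
      rw [vL_coe, lb_val hi14]
    have hz : ((f.1 (gs (iP (uInv u')) (vL t)) : ruLattice) : RuVec) = V l := by
      rw [f_gs, gs_coe, hy, iP_four_mul _ _ (add_uInv u')]
    have h1 := f_ip f (gs (iP (uInv u')) (vL t)) (vL (lb i))
    rw [hf i hi, hz] at h1
    rw [e]
    exact h1

theorem uniJ_le : ∀ i : Fin 36, uniJ.getD i 0 ≤ 14 := by decide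

theorem fix_of_uni (i : Fin 36) {f : fourRu} (hf : f ∈ fixN (uniJ.getD i 0)) {t : Pt} (ht : (t : ℕ) = uniT.getD i 0) :
    f.1 (vL t) = vL t := by
  obtain ⟨l, u, hu, hy, hm⟩ := match_of_fix (uniJ_le i) hf t
  have h := uni_ok i ⟨u, hu⟩
  simp only at h
  rw [ht, h] at hm
  by_cases hu0 : u = 0
  · subst hu0
    rw [if_pos rfl, List.mem_singleton] at hm
    have hl : l = t := Fin.ext (hm.trans ht.symm)
    subst hl
    apply Subtype.ext
    rw [hy, vL_coe]
    exact iP_zero_smul _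
  · rw [if_neg hu0] at hm
    exact absurd hm (by simp)

theorem fixN_succ {J : ℕ} {f : fourRu} (hf : f ∈ fixN J) (h : f.1 (vL (lb J)) = vL (lb J)) : f ∈ fixN (J + 1) := by
  intro i hi
  by_cases hJ : i < J
  · exact hf i hJ
  · have : i = J := by omega
    rw [this, h]

theorem uni_extras : ∀ n : Fin 8, uniJ.getD n 0 = 6 + n ∧ uniT.getD n 0 = labels.getD (6 + n) 0 := by decide

theorem uni_frames : ∀ n : Fin 28, uniJ.getD (8 + n) 0 = 14 ∧ uniT.getD (8 + n) 0 = frLab.getD n 0 := by decide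

theorem fix_extras {f : fourRu} (hf : f ∈ fixN 6) : f ∈ fixN 14 := by
  have key : ∀ n, n ≤ 8 → f ∈ fixN (6 + n) := by
    intro n
    induction n with
    | zero =>
      intro _
      exact hf
    | succ n ih =>
      intro hn
      have hn' : n < 8 := by omega
      have h1 := ih (by omega)
      obtain ⟨h2, h3⟩ := uni_extras ⟨n, hn'⟩
      simp only at h2 h3
      have h4 : f ∈ fixN (uniJ.getD (⟨n, by omega⟩ : Fin 36) 0) := by
        show f ∈ fixN (uniJ.getD n 0)
        rw [h2]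
        exact h1
      have h5 := fix_of_uni ⟨n, by omega⟩ h4 (t := lb (6 + n)) (by
        show _ = uniT.getD n 0
        rw [h3, lb_val (by omega)])
      exact fixN_succ h1 h5
  exact key 8 le_rfl

theorem fix_frames {f : fourRu} (hf : f ∈ fixN 14) {q : ℕ} (hq : q < 28) :
    f.1 (vL ⟨_, (frame_V hq).1⟩) = vL ⟨_, (frame_V hq).1⟩ := by
  obtain ⟨h2, h3⟩ := uni_frames ⟨q, hq⟩
  simp only at h2 h3
  have h4 : f ∈ fixN (uniJ.getD (⟨8 + q, by omega⟩ : Fin 36) 0) := by
    show f ∈ fixN (uniJ.getD (8 + q) 0)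
    rw [h2]
    exact hf
  exact fix_of_uni ⟨8 + q, by omega⟩ h4 (by
    show _ = uniT.getD (8 + q) 0
    rw [h3])

theorem ip_single (y : RuVec) (p : RuIdx) : ip y (Pi.single p ⟨4, 0⟩) = y p * ⟨4, 0⟩ := by
  unfold ip
  rw [Finset.sum_eq_single p]
  · simp only [Pi.single_eq_same]
    rfl
  · intro b _ hb
    rw [Pi.single_eq_of_ne hb]
    simp
  · intro h
    exact absurd (Finset.mem_univ p) h

theorem eq_one_of_fix14 {f : fourRu} (hf : f ∈ fixN 14) : f = 1 := by
  apply Subtype.ext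
  ext x : 1
  apply Subtype.ext
  funext p
  have hq := ixN_lt p
  have h1 := frame_V hq
  have h2 := f_ip f x (vL ⟨_, h1.1⟩)
  rw [fix_frames hf hq, vL_coe] at h2
  simp only at h2
  rw [h1.2, ixOf_ixN, ip_single, ip_single] at h2
  exact mul_right_cancel₀ (by decide) h2

/-! ### The group is finite -/

theorem fix_ext {f g : fourRu} (h : ∀ i, i < 14 → f.1 (vL (lb i)) = g.1 (vL (lb i))) : f = g := by
  have h1 : g⁻¹ * f ∈ fixN 14 := by
    intro i hi
    show g.1⁻¹ (f.1 _) = _
    rw [Perm.inv_eq_iff_eq, h i hi]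
  have h2 := eq_one_of_fix14 h1
  exact (inv_mul_eq_one.1 h2).symm

/-- The unit of the image of a line. -/
noncomputable def uF (f : fourRu) (a : Pt) : Fin 4 :=
  ⟨(sig_spec f a).choose, (sig_spec f a).choose_spec.1⟩

theorem uF_spec (f : fourRu) (a : Pt) : ((f.1 (vL a) : ruLattice) : RuVec) = iP (uF f a) • V (sig f a) :=
  (sig_spec f a).choose_spec.2

instance finite_fourRu : Finite fourRu := by
  let code : fourRu → (Fin 14 → Pt × Fin 4) := fun f i => (sig f (lb i), uF f (lb i))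
  refine Finite.of_injective code ?_
  intro f g h
  apply fix_ext
  intro i hi
  have h1 := congrFun h ⟨i, hi⟩
  have h2 : sig f (lb i) = sig g (lb i) := congrArg Prod.fst h1
  have h3 : uF f (lb i) = uF g (lb i) := congrArg Prod.snd h1
  apply Subtype.ext
  rw [uF_spec, uF_spec, h2, h3]

/-! ### The chain -/

theorem card_le_of_fibres {G X : Type*} [Group G] [Finite G] [DecidableEq X] (H H' : Subgroup G) (φ : G → X) (S : Finset X)
    (hS : ∀ h ∈ H, φ h ∈ S) (hf : ∀ h ∈ H, ∀ h' ∈ H, φ h = φ h' → h⁻¹ * h' ∈ H') :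
    Nat.card H ≤ Nat.card H' * S.card := by
  classical
  have : Fintype G := Fintype.ofFinite G
  let s : Finset G := Finset.univ.filter (· ∈ H)
  have hs : Nat.card H = s.card := by
    rw [Nat.card_eq_fintype_card, Fintype.card_subtype]
  let s' : Finset G := Finset.univ.filter (· ∈ H')
  have hs' : Nat.card H' = s'.card := by
    rw [Nat.card_eq_fintype_card, Fintype.card_subtype]
  rw [hs, hs']
  apply Finset.card_le_mul_card_image_of_maps_to (f := φ) (t := S)
  · intro a ha
    exact hS a (Finset.mem_filter.1 ha).2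
  · intro b _
    by_cases he : ∃ h₀ ∈ s, φ h₀ = b
    · obtain ⟨h₀, h0s, h0b⟩ := he
      apply Finset.card_le_card_of_injOn (fun x => h₀⁻¹ * x)
      · intro x hx
        have hx' := Finset.mem_filter.1 (Finset.mem_coe.1 hx)
        have hxH := (Finset.mem_filter.1 hx'.1).2
        refine Finset.mem_coe.2 (Finset.mem_filter.2 ⟨Finset.mem_univ _, ?_⟩)
        exact hf h₀ (Finset.mem_filter.1 h0s).2 x hxH (h0b.trans hx'.2.symm)
      · intro x _ y _ hxy
        exact mul_left_cancel hxy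
    · have : ({a ∈ s | φ a = b} : Finset G) = ∅ := by
        apply Finset.filter_eq_empty_iff.2
        intro x hx hxb
        exact he ⟨x, hx, hxb⟩
      rw [this]
      simp

theorem chain_step {j : ℕ} (hj : j < 6) : Nat.card (fixN j) ≤ Nat.card (fixN (j + 1)) * fibL.getD j 0 := by
  classical
  have hj14 : j < 14 := by omega
  let g : ℕ → Finset RuVec := fun u => ((mL j u (lb j)).toFinset).image (fun l => iP (uInv u) • V l)
  let S : Finset RuVec := (Finset.range 4).biUnion g
  have hSc : S.card ≤ fibL.getD j 0 := by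
    have h1 : ∀ u, (g u).card ≤ (mL j u (lb j)).length := fun u =>
      Finset.card_image_le.trans (List.toFinset_card_le _)
    have h2 := fib_ok ⟨j, hj⟩
    simp only at h2
    rw [← lb_val hj14] at h2
    refine Finset.card_biUnion_le.trans ?_
    rw [← h2]
    simp only [Finset.sum_range_succ, Finset.sum_range_zero, zero_add]
    have h0 := h1 0
    have h3 := h1 1
    have h4 := h1 2
    have h5 := h1 3
    omega
  refine (card_le_of_fibres (fixN j) (fixN (j + 1)) (fun f => ((f.1 (vL (lb j)) : ruLattice) : RuVec)) S ?_ ?_).trans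
    (Nat.mul_le_mul_left _ hSc)
  · intro f hf
    obtain ⟨l, u, hu, hy, hm⟩ := match_of_fix (by omega) hf (lb j)
    refine Finset.mem_biUnion.2 ⟨u, Finset.mem_range.2 hu, Finset.mem_image.2 ⟨l, List.mem_toFinset.2 hm, ?_⟩⟩
    exact hy.symm
  · intro f hf f' hf' h
    have h1 : f⁻¹ * f' ∈ fixN j := (fixN j).mul_mem ((fixN j).inv_mem hf) hf'
    refine fixN_succ h1 ?_
    show f.1⁻¹ (f'.1 _) = _
    rw [Perm.inv_eq_iff_eq]
    exact Subtype.ext h.symm

theorem fix6_bot : fixN 6 = ⊥ := by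
  rw [eq_bot_iff]
  intro f hf
  exact eq_one_of_fix14 (fix_extras hf)

theorem fix0_top : fixN 0 = ⊤ := by
  rw [eq_top_iff]
  intro f _ i hi
  exact absurd hi (Nat.not_lt_zero i)

theorem card_fourRu_le : Nat.card fourRu ≤ 583704576000 := by
  have h0 := chain_step (j := 0) (by norm_num)
  have h1 := chain_step (j := 1) (by norm_num)
  have h2 := chain_step (j := 2) (by norm_num)
  have h3 := chain_step (j := 3) (by norm_num)
  have h4 := chain_step (j := 4) (by norm_num)
  have h5 := chain_step (j := 5) (by norm_num)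
  rw [fix0_top, Subgroup.card_top] at h0
  rw [show 5 + 1 = 6 from rfl, fix6_bot, Subgroup.card_bot] at h5
  have e0 : fibL.getD 0 0 = 16240 := rfl
  have e1 : fibL.getD 1 0 = 2304 := rfl
  have e2 : fibL.getD 2 0 = 78 := rfl
  have e3 : fibL.getD 3 0 = 2 := rfl
  have e4 : fibL.getD 4 0 = 25 := rfl
  have e5 : fibL.getD 5 0 = 4 := rfl
  rw [e0] at h0
  rw [e1] at h1
  rw [e2] at h2
  rw [e3] at h3
  rw [e4] at h4
  rw [e5] at h5
  have h5' : Nat.card (fixN 5) ≤ 4 := by simpa using h5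
  have h4' : Nat.card (fixN 4) ≤ 100 := h4.trans (Nat.mul_le_mul_right _ h5')
  have h3' : Nat.card (fixN 3) ≤ 200 := h3.trans (Nat.mul_le_mul_right _ h4')
  have h2' : Nat.card (fixN 2) ≤ 15600 := h2.trans (Nat.mul_le_mul_right _ h3')
  have h1' : Nat.card (fixN 1) ≤ 35942400 := h1.trans (Nat.mul_le_mul_right _ h2')
  exact h0.trans (Nat.mul_le_mul_right _ h1')

end Cfsg.Agent.Lib.RuBridge
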