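import Cfsg.Agent.Lib.RuBridge.Cn.C0
import Cfsg.Agent.Lib.RuBridge.Cn.C1
import Cfsg.Agent.Lib.RuBridge.Cn.C2
import Cfsg.Agent.Lib.RuBridge.Cn.C3
import Cfsg.Agent.Lib.RuBridge.Cn.C4
import Cfsg.Agent.Lib.RuBridge.Cn.C5
import Cfsg.Agent.Lib.RuBridge.Cn.C6
import Cfsg.Agent.Lib.RuBridge.Cn.C7
import Cfsg.Agent.Lib.RuBridge.Cn.C8
import Cfsg.Agent.Lib.RuBridge.Cn.C9
import Cfsg.Agent.Lib.RuBridge.Cn.C10
import Cfsg.Agent.Lib.RuBridge.Cn.C11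
import Cfsg.Agent.Lib.RuBridge.Cn.C12
import Cfsg.Agent.Lib.RuBridge.Cn.C13
import Cfsg.Agent.Lib.RuBridge.Cn.C14
import Cfsg.Agent.Lib.RuBridge.Cn.C15
import Cfsg.Agent.Lib.RuBridge.Cn.C16
import Cfsg.Agent.Lib.RuBridge.Cn.C17
import Cfsg.Agent.Lib.RuBridge.Cn.C18
import Cfsg.Agent.Lib.RuBridge.Cn.C19
import Cfsg.Agent.Lib.RuBridge.Cn.C20
import Cfsg.Agent.Lib.RuBridge.Cn.C21
import Cfsg.Agent.Lib.RuBridge.Cn.C22

/-!
# The lattice of the Rudvalis group: the vectors of norm 16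
-/

set_option autoImplicit false
set_option maxRecDepth 100000
set_option linter.unusedSectionVars false

namespace Cfsg.Agent.Lib.RuBridge

open Cfsg.Spor Cfsg.Agent.Lib.RuLat

/-- All the states. -/
def statesAll : List St := Cn.chunk0 ++ (Cn.chunk1 ++ (Cn.chunk2 ++ (Cn.chunk3 ++ (Cn.chunk4 ++ (Cn.chunk5 ++ (Cn.chunk6 ++ (Cn.chunk7 ++ (Cn.chunk8 ++ (Cn.chunk9 ++ (Cn.chunk10 ++ (Cn.chunk11 ++ (Cn.chunk12 ++ (Cn.chunk13 ++ (Cn.chunk14 ++ (Cn.chunk15 ++ (Cn.chunk16 ++ (Cn.chunk17 ++ (Cn.chunk18 ++ (Cn.chunk19 ++ (Cn.chunk20 ++ (Cn.chunk21 ++ (Cn.chunk22))))))))))))))))))))))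

theorem states_ok : ∀ t ∈ statesAll, stOK t = true := by
  intro t ht
  unfold statesAll at ht
  simp only [List.mem_append] at ht
  rcases ht with h | h | h | h | h | h | h | h | h | h | h | h | h | h | h | h | h | h | h | h | h | h | h
  · exact (Cfsg.Agent.Lib.PermComp.Core.allL_eq_true _ _).1 Cn.chunk0_ok t h
  · exact (Cfsg.Agent.Lib.PermComp.Core.allL_eq_true _ _).1 Cn.chunk1_ok t h
  · exact (Cfsg.Agent.Lib.PermComp.Core.allL_eq_true _ _).1 Cn.chunk2_ok t h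
  · exact (Cfsg.Agent.Lib.PermComp.Core.allL_eq_true _ _).1 Cn.chunk3_ok t h
  · exact (Cfsg.Agent.Lib.PermComp.Core.allL_eq_true _ _).1 Cn.chunk4_ok t h
  · exact (Cfsg.Agent.Lib.PermComp.Core.allL_eq_true _ _).1 Cn.chunk5_ok t h
  · exact (Cfsg.Agent.Lib.PermComp.Core.allL_eq_true _ _).1 Cn.chunk6_ok t h
  · exact (Cfsg.Agent.Lib.PermComp.Core.allL_eq_true _ _).1 Cn.chunk7_ok t h
  · exact (Cfsg.Agent.Lib.PermComp.Core.allL_eq_true _ _).1 Cn.chunk8_ok t h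
  · exact (Cfsg.Agent.Lib.PermComp.Core.allL_eq_true _ _).1 Cn.chunk9_ok t h
  · exact (Cfsg.Agent.Lib.PermComp.Core.allL_eq_true _ _).1 Cn.chunk10_ok t h
  · exact (Cfsg.Agent.Lib.PermComp.Core.allL_eq_true _ _).1 Cn.chunk11_ok t h
  · exact (Cfsg.Agent.Lib.PermComp.Core.allL_eq_true _ _).1 Cn.chunk12_ok t h
  · exact (Cfsg.Agent.Lib.PermComp.Core.allL_eq_true _ _).1 Cn.chunk13_ok t h
  · exact (Cfsg.Agent.Lib.PermComp.Core.allL_eq_true _ _).1 Cn.chunk14_ok t h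
  · exact (Cfsg.Agent.Lib.PermComp.Core.allL_eq_true _ _).1 Cn.chunk15_ok t h
  · exact (Cfsg.Agent.Lib.PermComp.Core.allL_eq_true _ _).1 Cn.chunk16_ok t h
  · exact (Cfsg.Agent.Lib.PermComp.Core.allL_eq_true _ _).1 Cn.chunk17_ok t h
  · exact (Cfsg.Agent.Lib.PermComp.Core.allL_eq_true _ _).1 Cn.chunk18_ok t h
  · exact (Cfsg.Agent.Lib.PermComp.Core.allL_eq_true _ _).1 Cn.chunk19_ok t h
  · exact (Cfsg.Agent.Lib.PermComp.Core.allL_eq_true _ _).1 Cn.chunk20_ok t h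
  · exact (Cfsg.Agent.Lib.PermComp.Core.allL_eq_true _ _).1 Cn.chunk21_ok t h
  · exact (Cfsg.Agent.Lib.PermComp.Core.allL_eq_true _ _).1 Cn.chunk22_ok t h

set_option Elab.async false in
theorem top_ok : go (leafA statesAll) stepsA 0 0 = true := by decide +kernel

/-- The labels of the four times coordinate vectors. -/
def frLab : List ℕ := [3893, 3323, 3397, 2454, 1134, 3748, 3184, 1020, 144, 2523, 1818, 3522, 3872, 2288, 992, 3505, 2417, 2285, 3205, 2051, 3534, 931, 3039, 128, 2016, 1405, 915, 2252]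

set_option maxRecDepth 1000000 in
theorem frLab_ok : ∀ q : Fin 28, frLab.getD q 0 < 4060 ∧ vecN (Rt (frLab.getD q 0)) = (Pi.single (ixOf q) ⟨4, 0⟩ : RuVec) := by
  decide +kernel

/-- The vectors of norm 16: a unit times a representative. -/
theorem cover {y : RuVec} (hy : y ∈ RuLat.Lat) (hn : ruNorm y = 16) :
    ∃ l u : ℕ, l < 4060 ∧ u < 4 ∧ y = iP u • vecN (Rt l) := by
  rcases cover_main statesAll states_ok top_ok hy hn with ⟨e, he, hv⟩ | ⟨p, u, hu, hv⟩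
  · obtain ⟨h1, h2, _⟩ := entOK_spec he
    exact ⟨eL e, eU e, by omega, by omega, hv⟩
  · have h1 := frLab_ok ⟨ixN p, ixN_lt p⟩
    simp only at h1
    rw [ixOf_ixN] at h1
    exact ⟨_, u, h1.1, hu, by rw [h1.2]; exact hv⟩

end Cfsg.Agent.Lib.RuBridge
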