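import Cfsg.Agent.Lib.RuBridge.RTab
import Cfsg.Agent.Lib.RuBridge.Steps
import Cfsg.Agent.Lib.PermComp.Core

/-!
# The lattice of the Rudvalis group: from the search to the list of the vectors of norm 16
-/

set_option autoImplicit false
set_option linter.unusedSectionVars false
set_option linter.constructorNameAsVariable false

namespace Cfsg.Agent.Lib.RuBridge

open Cfsg.Spor Cfsg.Agent.Lib.RuLat

/-! ### The leaves -/

/-- The field of a digit. -/
noncomputable def fO (d : ℕ) : ℕ :=
  Nat.land (Nat.shiftRight (nat_lit 0xffffffffffffffffd80c8040) (Nat.mul 6 d)) 63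

/-- Comparison of a number with a multiple of a representative. -/
noncomputable def entLoop (u : ℕ) (l : List ℕ) : ℕ → ℕ → Bool :=
  List.rec (fun _ _ => true) (fun _ _ ih R C =>
    Bool.rec false (ih (Nat.shiftRight R 4) (Nat.shiftRight C 6))
      (Nat.beq (fO (mulD u (Nat.land R 15))) (Nat.land C 63))) l

theorem land15 (x : ℕ) : Nat.land x 15 = x % 16 := Nat.and_two_pow_sub_one_eq_mod x 4

theorem land63 (x : ℕ) : Nat.land x 63 = x % 64 := Nat.and_two_pow_sub_one_eq_mod x 6

theorem shift_add' (x a b : ℕ) : (x >>> a) >>> b = x >>> (a + b) := by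
  rw [Nat.shiftRight_add]

theorem entLoop_spec {u : ℕ} : ∀ (l : List ℕ) (R C : ℕ), entLoop u l R C = true →
    ∀ j, j < l.length → fO (mulD u (dig R j)) = (C >>> (6 * j)) % 64 := by
  intro l
  induction l with
  | nil =>
    intro R C _ j hj
    exact absurd hj (by simp)
  | cons a l ih =>
    intro R C h j hj
    have h0 : entLoop u (a :: l) R C = Bool.rec false (entLoop u l (Nat.shiftRight R 4) (Nat.shiftRight C 6))
      (Nat.beq (fO (mulD u (Nat.land R 15))) (Nat.land C 63)) := rfl
    rw [h0] at h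
    cases hb : Nat.beq (fO (mulD u (Nat.land R 15))) (Nat.land C 63) with
    | false =>
      rw [hb] at h
      exact absurd h (by simp)
    | true =>
      rw [hb] at h
      cases j with
      | zero =>
        have h1 := Nat.eq_of_beq_eq_true hb
        rw [land15, land63] at h1
        simpa [dig] using h1
      | succ j =>
        have h1 := ih _ _ h j (by simpa using hj)
        have e1 : dig (Nat.shiftRight R 4) j = dig R (j + 1) := by
          unfold dig
          rw [show Nat.shiftRight R 4 = R >>> 4 from rfl, shift_add']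
          congr 2
          ring
        have e2 : ((Nat.shiftRight C 6) >>> (6 * j)) % 64 = (C >>> (6 * (j + 1))) % 64 := by
          rw [show Nat.shiftRight C 6 = C >>> 6 from rfl, shift_add']
          congr 2
          ring
        rw [← e1, ← e2]
        exact h1

/-- The coordinates. -/
def q28 : List ℕ := [0,1,2,3,4,5,6,7,8,9,10,11,12,13,14,15,16,17,18,19,20,21,22,23,24,25,26,27]

/-- The part of an entry with the number. -/
noncomputable def eC (e : ℕ) : ℕ := Nat.mod e (nat_lit 0x1000000000000000000000000000000000000000000)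

/-- The part of an entry with the line. -/
noncomputable def eL (e : ℕ) : ℕ := Nat.land (Nat.shiftRight e 168) 4095

/-- The part of an entry with the unit. -/
noncomputable def eU (e : ℕ) : ℕ := Nat.shiftRight e 180

/-- An entry is a unit times a representative. -/
noncomputable def entOK (e : ℕ) : Bool :=
  Bool.rec false (Bool.rec false (entLoop (eU e) q28 (Rt (eL e)) (eC e)) (Nat.ble (eL e) 4059)) (Nat.ble (eU e) 3)

theorem entOK_spec {e : ℕ} (h : entOK e = true) : eU e ≤ 3 ∧ eL e ≤ 4059 ∧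
    ∀ j, j < 28 → fO (mulD (eU e) (dig (Rt (eL e)) j)) = (eC e >>> (6 * j)) % 64 := by
  unfold entOK at h
  cases h1 : Nat.ble (eU e) 3 with
  | false =>
    rw [h1] at h
    exact absurd h (by simp)
  | true =>
    rw [h1] at h
    cases h2 : Nat.ble (eL e) 4059 with
    | false =>
      rw [h2] at h
      exact absurd h (by simp)
    | true =>
      rw [h2] at h
      exact ⟨Nat.le_of_ble_eq_true h1, Nat.le_of_ble_eq_true h2, entLoop_spec q28 _ _ h⟩

/-- Membership in a list of entries. -/
noncomputable def memC (C : ℕ) (L : List ℕ) : Bool :=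
  List.rec false (fun e _ ih => Bool.rec ih true (Nat.beq (eC e) C)) L

theorem memC_spec {C : ℕ} : ∀ {L : List ℕ}, memC C L = true → ∃ e ∈ L, eC e = C := by
  intro L
  induction L with
  | nil =>
    intro h
    exact absurd h (by simp [memC])
  | cons e L ih =>
    intro h
    have h0 : memC C (e :: L) = Bool.rec (memC C L) true (Nat.beq (eC e) C) := rfl
    rw [h0] at h
    cases hb : Nat.beq (eC e) C with
    | true => exact ⟨e, by simp, Nat.eq_of_beq_eq_true hb⟩
    | false =>
      rw [hb] at h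
      obtain ⟨e', he', h1⟩ := ih h
      exact ⟨e', List.mem_cons_of_mem _ he', h1⟩

/-- The test at the end of a search. -/
noncomputable def leafL (L : List ℕ) (N c : ℕ) : Bool :=
  Bool.rec (Bool.rec false (Nat.beq (Nat.shiftRight N 36) 0) (Nat.beq c 0)) (memC (Nat.shiftRight N 36) L) (Nat.beq c 16)

theorem leafL_spec {L : List ℕ} {N c : ℕ} (h : leafL L N c = true) :
    (c = 16 ∧ ∃ e ∈ L, eC e = N >>> 36) ∨ (c = 0 ∧ N >>> 36 = 0) := by
  unfold leafL at h
  cases h1 : Nat.beq c 16 with
  | true =>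
    rw [h1] at h
    exact Or.inl ⟨Nat.eq_of_beq_eq_true h1, memC_spec h⟩
  | false =>
    rw [h1] at h
    cases h2 : Nat.beq c 0 with
    | false =>
      rw [h2] at h
      exact absurd h (by simp)
    | true =>
      rw [h2] at h
      exact Or.inr ⟨Nat.eq_of_beq_eq_true h2, Nat.eq_of_beq_eq_true h⟩

/-! ### The cost and the norm -/

/-- The least norm of a residue. -/
def fv (a : ZMod 4) : ℕ := if a = 0 then 0 else if a = 2 then 4 else 1

theorem look_sum : ∀ a b : ZMod 4, lookT (dtab 0) (a.val + 8 * b.val) + lookT (dtab 1) (a.val + 8 * b.val) +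
    lookT (dtab 2) (a.val + 8 * b.val) + lookT (dtab 3) (a.val + 8 * b.val) = fv a + fv b := by
  decide +kernel

theorem fv_le (x : ℤ) : (fv (x : ZMod 4) : ℤ) ≤ x * x := by
  obtain ⟨t, r, hr, rfl⟩ : ∃ t r : ℤ, (r = 0 ∨ r = 1 ∨ r = 2 ∨ r = 3) ∧ x = 4 * t + r := by
    refine ⟨x / 4, x % 4, ?_, by omega⟩
    omega
  have h4 : ((4 * t + r : ℤ) : ZMod 4) = (r : ZMod 4) := by
    push_cast
    have : (4 : ZMod 4) = 0 := rfl
    rw [this]
    ring
  rw [h4]
  rcases hr with rfl | rfl | rfl | rfl
  · have : fv ((0 : ℤ) : ZMod 4) = 0 := by decide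
    rw [this]
    push_cast
    exact mul_self_nonneg _
  · have : fv ((1 : ℤ) : ZMod 4) = 1 := by decide
    rw [this]
    have h5 : 4 * t + 1 ≠ 0 := by omega
    have h6 := mul_self_pos.2 h5
    push_cast
    omega
  · have : fv ((2 : ℤ) : ZMod 4) = 4 := by decide
    rw [this]
    have h5 : 2 * t + 1 ≠ 0 := by omega
    have h6 := mul_self_pos.2 h5
    push_cast
    nlinarith
  · have : fv ((3 : ℤ) : ZMod 4) = 1 := by decide
    rw [this]
    have h5 : 4 * t + 3 ≠ 0 := by omega
    have h6 := mul_self_pos.2 h5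
    push_cast
    omega

theorem norm_eq' (z : GaussianInt) : z.norm = z.re * z.re + z.im * z.im := by
  simp [Zsqrtd.norm_def]

theorem fv_norm_le (z : GaussianInt) : ((fv (ra z) + fv (rb z) : ℕ) : ℤ) ≤ z.norm := by
  rw [norm_eq']
  push_cast
  exact add_le_add (fv_le _) (fv_le _)

theorem sum_range_mul28 (g : ℕ → ℕ → ℕ) (K : ℕ) :
    ∑ i ∈ Finset.range (28 * K), g (i / 28) (i % 28) =
      ∑ k ∈ Finset.range K, ∑ q ∈ Finset.range 28, g k q := by
  induction K with
  | zero => simp
  | succ K ih =>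
    rw [Finset.sum_range_succ, ← ih, show 28 * (K + 1) = 28 * K + 28 by ring, Finset.sum_range_add]
    refine congrArg (fun t => _ + t) (Finset.sum_congr rfl ?_)
    intro x hx
    have hx' := Finset.mem_range.1 hx
    have e1 : (28 * K + x) / 28 = K := by omega
    have e2 : (28 * K + x) % 28 = x := by omega
    rw [e1, e2]

/-- The coordinates and the positions. -/
def idxEquiv : Fin 28 ≃ RuIdx where
  toFun q := ixOf q
  invFun p := ⟨ixN p, ixN_lt p⟩
  left_inv q := Fin.ext (ixN_ixOf q.2)
  right_inv p := ixOf_ixN p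

theorem sum_q28 {M : Type*} [AddCommMonoid M] (g : RuIdx → M) :
    ∑ q ∈ Finset.range 28, g (ixOf q) = ∑ p, g p := by
  rw [Finset.sum_range]
  exact Fintype.sum_equiv idxEquiv _ _ (fun _ => rfl)

theorem partialC_total (y : RuVec) : partialC y 112 = ∑ p, (fv (ra (y p)) + fv (rb (y p))) := by
  unfold partialC dlI
  have h := sum_range_mul28 (fun k q => lookT (dtab k) (vz (y (ixOf q)))) 4
  rw [show (28 * 4 : ℕ) = 112 from rfl] at h
  rw [h, Finset.sum_comm, ← sum_q28]
  apply Finset.sum_congr rfl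
  intro q _
  simp only [Finset.sum_range_succ, Finset.sum_range_zero, Nat.zero_add]
  exact look_sum _ _

theorem partialC_le (y : RuVec) : (partialC y 112 : ℤ) ≤ ruNorm y := by
  rw [partialC_total]
  unfold ruNorm
  push_cast
  apply Finset.sum_le_sum
  intro p _
  have := fv_norm_le (y p)
  push_cast at this
  exact this

/-! ### The vector of a leaf -/

theorem fO_bd : ∀ d : Fin 16, aF (fO d) ≤ 3 → bF (fO d) ≤ 3 → d.val < 5 := by decide +kernel

theorem fO_res : ∀ d : Fin 5, ((aF (fO d) : ℕ) : ZMod 4) = ra (gval d) ∧ ((bF (fO d) : ℕ) : ZMod 4) = rb (gval d) := by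
  decide +kernel

theorem gval_fv : ∀ d : Fin 5, ((fv (ra (gval d)) + fv (rb (gval d)) : ℕ) : ℤ) = (gval d).norm := by
  decide +kernel

theorem gval_unique {d : ℕ} (hd : d < 5) {z : GaussianInt} (h1 : ra z = ra (gval d)) (h2 : rb z = rb (gval d))
    (h3 : z.norm = (gval d).norm) : z = gval d := by
  obtain ⟨a, b⟩ := z
  have h4 : (gval d).norm ≤ 1 := by
    have : ∀ d : Fin 5, (gval d).norm ≤ 1 := by decide +kernel
    exact this ⟨d, hd⟩
  rw [h3.symm, norm_eq'] at h4
  simp only at h4
  have ha1 : a ≤ 1 := by nlinarith [mul_self_nonneg b]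
  have ha2 : -1 ≤ a := by nlinarith [mul_self_nonneg b]
  have hb1 : b ≤ 1 := by nlinarith [mul_self_nonneg a]
  have hb2 : -1 ≤ b := by nlinarith [mul_self_nonneg a]
  unfold ra at h1
  unfold rb at h2
  simp only at h1 h2
  interval_cases d <;> interval_cases a <;> interval_cases b <;>
    first
    | rfl
    | (exfalso; revert h1 h2 h3; decide +kernel)

theorem cvN_of_shift (N j : ℕ) : ((N >>> 36) >>> (6 * j)) % 64 = cvN N j := by
  unfold cvN
  rw [shift_add']

theorem mulD_lt (u d : ℕ) : mulD u d < 16 := by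
  unfold mulD
  rw [land15]
  exact Nat.mod_lt _ (by norm_num)

theorem needF_end (r : ℕ) : needF 112 r = 4 := by
  unfold needF
  norm_num

theorem leaf_vec {y : RuVec} {N : ℕ} (hI : Inv y 112 N) (hn : ruNorm y = 16) (hc : partialC y 112 = 16)
    {e : ℕ} (he : entOK e = true) (hC : eC e = N >>> 36) :
    y = iP (eU e) • vecN (Rt (eL e)) := by
  obtain ⟨hu, hl, hf⟩ := entOK_spec he
  have hsum : ∑ p, ((fv (ra (y p)) + fv (rb (y p)) : ℕ) : ℤ) = ∑ p, (y p).norm := by
    have h1 := partialC_total y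
    rw [hc] at h1
    have h2 : (∑ p, ((fv (ra (y p)) + fv (rb (y p)) : ℕ) : ℤ)) = 16 := by
      rw [← Nat.cast_sum, ← h1]
      rfl
    rw [h2]
    exact hn.symm
  have hterm := (Finset.sum_eq_sum_iff_of_le (fun p _ => fv_norm_le (y p))).1 hsum
  funext p
  have hjlt := ixN_lt p
  have hfj := hf _ hjlt
  rw [hC, cvN_of_shift] at hfj
  set d' := mulD (eU e) (dig (Rt (eL e)) (ixN p)) with hd'
  have hcl := hI.clean.2 ⟨ixN p, hjlt⟩
  simp only at hcl
  rw [← hfj] at hcl
  have hd5 : d' < 5 := fO_bd ⟨d', mulD_lt _ _⟩ hcl.1 hcl.2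
  have hres := fO_res ⟨d', hd5⟩
  simp only at hres
  have hdv := hI.dv p
  rw [needF_end] at hdv
  have hdv' : ra (y p - dec N p) = 0 ∧ rb (y p - dec N p) = 0 := by
    unfold dvZ dvT at hdv
    simpa using hdv
  rw [ra_sub, rb_sub, sub_eq_zero, sub_eq_zero, ra_dec, rb_dec, ← hfj] at hdv'
  have hra : ra (y p) = ra (gval d') := hdv'.1.trans hres.1
  have hrb : rb (y p) = rb (gval d') := hdv'.2.trans hres.2
  have hnorm : (y p).norm = (gval d').norm := by
    have h1 := hterm p (Finset.mem_univ p)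
    rw [hra, hrb] at h1
    rw [← h1]
    exact gval_fv ⟨d', hd5⟩
  have hfin := gval_unique hd5 hra hrb hnorm
  rw [hfin, iP_vecN (Nat.lt_succ_of_le hu)]

/-! ### Four times the lattice of coordinates -/

theorem hfour (v : RuVec) (h : ∀ p, D4 (v p)) : v ∈ RuLat.Lat := by
  choose w hw using h
  have h1 : v = ∑ p, w p • (Pi.single p ⟨4, 0⟩ : RuVec) := by
    funext r
    rw [Finset.sum_apply]
    simp only [Pi.smul_apply, smul_eq_mul, Pi.single_apply]
    rw [Finset.sum_eq_single r]
    · rw [if_pos rfl, hw r, mul_comm]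
      rfl
    · intro b _ hb
      rw [if_neg (Ne.symm hb), mul_zero]
    · intro h2
      exact absurd (Finset.mem_univ r) h2
  rw [h1]
  apply Submodule.sum_mem
  intro p _
  apply Submodule.smul_mem
  have h2 := frame_ok ⟨ixN p, ixN_lt p⟩
  simp only at h2
  rw [ixOf_ixN] at h2
  rw [← h2]
  exact lcAux_mem _ _

/-! ### The vectors divisible by 4 -/

theorem exists_unit_of_norm_one {z : GaussianInt} (h : z.norm = 1) : ∃ u, u < 4 ∧ z = iP u := by
  obtain ⟨a, b⟩ := z
  rw [norm_eq'] at h
  simp only at h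
  have ha1 : a ≤ 1 := by nlinarith [mul_self_nonneg b]
  have ha2 : -1 ≤ a := by nlinarith [mul_self_nonneg b]
  have hb1 : b ≤ 1 := by nlinarith [mul_self_nonneg a]
  have hb2 : -1 ≤ b := by nlinarith [mul_self_nonneg a]
  interval_cases a <;> interval_cases b <;> first
    | exact absurd h (by decide)
    | exact ⟨0, by norm_num, rfl⟩
    | exact ⟨1, by norm_num, rfl⟩
    | exact ⟨2, by norm_num, rfl⟩
    | exact ⟨3, by norm_num, rfl⟩

theorem frame_case {y : RuVec} {N : ℕ} (hI : Inv y 112 N) (hn : ruNorm y = 16) (h0 : N >>> 36 = 0) :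
    ∃ (p : RuIdx) (u : ℕ), u < 4 ∧ y = iP u • (Pi.single p ⟨4, 0⟩ : RuVec) := by
  have hcv : ∀ j, cvN N j = 0 := by
    intro j
    rw [← cvN_of_shift, h0]
    simp
  have hD : ∀ p, D4 (y p) := by
    intro p
    have hdv := hI.dv p
    rw [needF_end] at hdv
    have hdv' : ra (y p - dec N p) = 0 ∧ rb (y p - dec N p) = 0 := by
      unfold dvZ dvT at hdv
      simpa using hdv
    rw [ra_sub, rb_sub, ra_dec, rb_dec, hcv] at hdv'
    rw [D4_iff_res]
    simpa [aF, bF] using hdv'
  choose w hw using hD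
  have hw' : ∀ p, y p = ⟨4, 0⟩ * w p := hw
  have hnorm : ∀ p, (y p).norm = 16 * (w p).norm := by
    intro p
    rw [hw', Zsqrtd.norm_mul]
    rfl
  have hsum : ∑ p, (w p).norm = 1 := by
    have h1 : ruNorm y = 16 * ∑ p, (w p).norm := by
      unfold ruNorm
      rw [Finset.mul_sum]
      exact Finset.sum_congr rfl fun p _ => hnorm p
    rw [hn] at h1
    omega
  have hnn : ∀ p, 0 ≤ (w p).norm := fun p => norm_nonneg' _
  obtain ⟨p0, hp0⟩ : ∃ p, (w p).norm ≠ 0 := by
    by_contra hcon
    simp only [not_exists, not_not] at hcon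
    rw [Finset.sum_eq_zero (fun p _ => hcon p)] at hsum
    exact absurd hsum (by norm_num)
  have hsplit := Finset.add_sum_erase Finset.univ (fun p => (w p).norm) (Finset.mem_univ p0)
  have hrest : 0 ≤ ∑ p ∈ Finset.univ.erase p0, (w p).norm := Finset.sum_nonneg fun p _ => hnn p
  have hp1 : (w p0).norm = 1 := by
    have := hnn p0
    omega
  have hzero : ∀ p, p ≠ p0 → w p = 0 := by
    intro p hp
    have h1 : ∑ p ∈ Finset.univ.erase p0, (w p).norm = 0 := by omega
    have h2 := (Finset.sum_eq_zero_iff_of_nonneg (fun p _ => hnn p)).1 h1 p (Finset.mem_erase.2 ⟨hp, Finset.mem_univ p⟩)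
    exact norm_eq_zero' h2
  obtain ⟨u, hu, hz⟩ := exists_unit_of_norm_one hp1
  refine ⟨p0, u, hu, ?_⟩
  funext r
  simp only [Pi.smul_apply, smul_eq_mul, Pi.single_apply]
  by_cases hr : r = p0
  · subst hr
    rw [if_pos rfl, hw', hz, mul_comm]
  · rw [if_neg hr, mul_zero, hw', hzero r hr, mul_zero]

/-! ### The assembly -/

/-- A state of the search after the first level. -/
abbrev St : Type := ℕ × ℕ × List ℕ

/-- The check of a state. -/
noncomputable def stOK (t : St) : Bool :=
  Bool.rec false (Cfsg.Agent.Lib.PermComp.Core.allL entOK t.2.2) (go (leafL t.2.2) stepsB t.1 t.2.1)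

/-- The end of the first level. -/
noncomputable def leafA (S : List St) (N c : ℕ) : Bool :=
  List.rec false (fun t _ ih => Bool.rec ih (Bool.rec ih true (Nat.beq t.2.1 c)) (Nat.beq t.1 N)) S

theorem leafA_spec {N c : ℕ} : ∀ {S : List St}, leafA S N c = true → ∃ t ∈ S, t.1 = N ∧ t.2.1 = c := by
  intro S
  induction S with
  | nil =>
    intro h
    exact absurd h (by simp [leafA])
  | cons t S ih =>
    intro h
    have h0 : leafA (t :: S) N c = Bool.rec (leafA S N c) (Bool.rec (leafA S N c) true (Nat.beq t.2.1 c)) (Nat.beq t.1 N) := rfl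
    rw [h0] at h
    cases h1 : Nat.beq t.1 N with
    | false =>
      rw [h1] at h
      obtain ⟨t', ht', h2⟩ := ih h
      exact ⟨t', List.mem_cons_of_mem _ ht', h2⟩
    | true =>
      rw [h1] at h
      cases h2 : Nat.beq t.2.1 c with
      | true => exact ⟨t, by simp, Nat.eq_of_beq_eq_true h1, Nat.eq_of_beq_eq_true h2⟩
      | false =>
        rw [h2] at h
        obtain ⟨t', ht', h3⟩ := ih h
        exact ⟨t', List.mem_cons_of_mem _ ht', h3⟩

theorem hVA : ∀ i s, stepsA[i]? = some s → StepOK (0 + i) s (aux (0 + i)) := by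
  intro i s h
  obtain ⟨hi, rfl⟩ := List.getElem?_eq_some_iff.1 h
  rw [stepsA_length] at hi
  have h1 := steps_okA ⟨i, hi⟩
  simp only at h1
  rw [List.getD_eq_getElem _ _ (by rw [stepsA_length]; exact hi)] at h1
  rw [Nat.zero_add]
  exact h1

theorem hVB : ∀ i s, stepsB[i]? = some s → StepOK (28 + i) s (aux (28 + i)) := by
  intro i s h
  obtain ⟨hi, rfl⟩ := List.getElem?_eq_some_iff.1 h
  have hi' := hi
  rw [stepsB_length] at hi'
  by_cases h1 : i < 28
  · have h2 := steps_okB1 ⟨i, h1⟩
    simp only at h2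
    rw [List.getD_eq_getElem _ _ hi] at h2
    exact h2
  · by_cases h3 : i < 56
    · have h2 := steps_okB2 ⟨i - 28, by omega⟩
      simp only at h2
      rw [show 28 + (i - 28) = i by omega, show 56 + (i - 28) = 28 + i by omega, List.getD_eq_getElem _ _ hi] at h2
      exact h2
    · have h2 := steps_okB3 ⟨i - 56, by omega⟩
      simp only at h2
      rw [show 56 + (i - 56) = i by omega, show 84 + (i - 56) = 28 + i by omega, List.getD_eq_getElem _ _ hi] at h2
      exact h2

theorem dec_zero : dec 0 = 0 := by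
  funext p
  simp [dec, cvN, aF, bF]
  rfl

theorem inv_zero (y : RuVec) : Inv y 0 0 := by
  refine ⟨clean_zero, ?_, fun p => ?_⟩
  · rw [dec_zero]
    exact RuLat.Lat.zero_mem
  · have : needF 0 (ixN p) = 0 := by
      unfold needF
      simp
    rw [this]
    rfl

/-- The vectors of norm 16 of the lattice. -/
theorem cover_main (S : List St) (hS : ∀ t ∈ S, stOK t = true) (hTop : go (leafA S) stepsA 0 0 = true)
    {y : RuVec} (hy : y ∈ RuLat.Lat) (hn : ruNorm y = 16) :
    (∃ e, entOK e = true ∧ y = iP (eU e) • vecN (Rt (eL e))) ∨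
      ∃ (p : RuIdx) (u : ℕ), u < 4 ∧ y = iP u • (Pi.single p ⟨4, 0⟩ : RuVec) := by
  have hbd : partialC y 112 ≤ 16 := by
    have := partialC_le y
    omega
  obtain ⟨N1, hl1, hI1⟩ := go_sound y hfour hy hbd aux stepsA 0 0 0 (by rw [stepsA_length]; norm_num) hVA hTop
    (inv_zero y) (by simp [partialC])
  rw [stepsA_length] at hl1 hI1
  obtain ⟨t, ht, hN, hc⟩ := leafA_spec hl1
  have hst := hS t ht
  unfold stOK at hst
  cases h1 : go (leafL t.2.2) stepsB t.1 t.2.1 with
  | false =>
    rw [h1] at hst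
    exact absurd hst (by simp)
  | true =>
    rw [h1] at hst
    have hall := (Cfsg.Agent.Lib.PermComp.Core.allL_eq_true _ _).1 hst
    rw [hN, hc] at h1
    obtain ⟨N2, hl2, hI2⟩ := go_sound y hfour hy hbd aux stepsB 28 N1 _ (by rw [stepsB_length]) hVB h1 hI1 rfl
    rw [stepsB_length] at hl2 hI2
    rcases leafL_spec hl2 with ⟨hc16, e, he, hC⟩ | ⟨_, h0⟩
    · exact Or.inl ⟨e, hall e he, leaf_vec hI2 hn hc16 (hall e he) hC⟩
    · exact Or.inr (frame_case hI2 hn h0)

end Cfsg.Agent.Lib.RuBridge
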