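import Cfsg.Agent.Lib.RuBridge.Fields
import Cfsg.Agent.Lib.RuLat.Main

/-!
# The lattice of the Rudvalis group: a search for the vectors of norm 16

The search fixes a vector of the lattice digit by digit (in powers of `1 + i`, coordinate by coordinate).  At each
position either a vector of the lattice may be added, or the digit is forced by a vector with products divisible by 4.
The running cost is a lower bound for the norm.  The function `go` is evaluated by the kernel; `go_sound` says what
it proves.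
-/

set_option autoImplicit false
set_option linter.unusedSectionVars false
set_option linter.constructorNameAsVariable false

namespace Cfsg.Agent.Lib.RuBridge

open Cfsg.Spor Cfsg.Agent.Lib.RuLat

/-- A position of the search. -/
inductive Step
  | np (sh tab : ℕ)
  | pv (sh tab T : ℕ)

/-- The tables of the cost of a digit, by level. -/
def dtab (k : ℕ) : ℕ :=
  match k with
  | 0 => nat_lit 0x101000010100000010100001010
  | 1 => nat_lit 0x2020000000000000202000000000
  | 2 => nat_lit 0x40000000000000400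
  | 3 => nat_lit 0x400000048400000040000000000
  | _ => 0

/-- Reading a table. -/
def lookT (tab v : ℕ) : ℕ := (tab >>> (4 * v)) % 16

/-- A branch of the search. -/
noncomputable def br (ih : ℕ → ℕ → Bool) (tab sh N c : ℕ) : Bool :=
  (fun c' => Bool.rec true (ih N c') (Nat.ble c' 16))
    (Nat.add c (Nat.land (Nat.shiftRight tab (Nat.mul 4 (Nat.land (Nat.shiftRight N sh) 63))) 15))

/-- The sum modulo 4, for the kernel. -/
noncomputable def addK (N T : ℕ) : ℕ := Nat.land (Nat.add N T) MM

/-- The search. -/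
noncomputable def go (leaf : ℕ → ℕ → Bool) (ss : List Step) : ℕ → ℕ → Bool :=
  List.rec leaf (fun s _ ih N c =>
    Step.rec (fun sh tab => br ih tab sh N c)
      (fun sh tab T => Bool.rec false (br ih tab sh (addK N T) c) (br ih tab sh N c)) s) ss

theorem go_nil (leaf : ℕ → ℕ → Bool) (N c : ℕ) : go leaf [] N c = leaf N c := rfl

theorem go_np (leaf : ℕ → ℕ → Bool) (sh tab : ℕ) (ss : List Step) (N c : ℕ) :
    go leaf (.np sh tab :: ss) N c = br (go leaf ss) tab sh N c := rfl

theorem go_pv (leaf : ℕ → ℕ → Bool) (sh tab T : ℕ) (ss : List Step) (N c : ℕ) :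
    go leaf (.pv sh tab T :: ss) N c =
      Bool.rec false (br (go leaf ss) tab sh (addK N T) c) (br (go leaf ss) tab sh N c) := rfl

theorem go_pv_spec {leaf : ℕ → ℕ → Bool} {sh tab T : ℕ} {ss : List Step} {N c : ℕ}
    (h : go leaf (.pv sh tab T :: ss) N c = true) :
    br (go leaf ss) tab sh N c = true ∧ br (go leaf ss) tab sh (addK N T) c = true := by
  rw [go_pv] at h
  cases h0 : br (go leaf ss) tab sh N c with
  | false =>
    rw [h0] at h
    exact absurd h (by simp)
  | true =>
    rw [h0] at h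
    exact ⟨rfl, h⟩

theorem br_spec {ih : ℕ → ℕ → Bool} {tab sh N c : ℕ} (h : br ih tab sh N c = true)
    (hc : c + lookT tab ((N >>> sh) % 64) ≤ 16) : ih N (c + lookT tab ((N >>> sh) % 64)) = true := by
  have e1 : ∀ x : ℕ, Nat.land x 63 = x % 64 := fun x => Nat.and_two_pow_sub_one_eq_mod x 6
  have e2 : ∀ x : ℕ, Nat.land x 15 = x % 16 := fun x => Nat.and_two_pow_sub_one_eq_mod x 4
  have e3 : Nat.add c (Nat.land (Nat.shiftRight tab (Nat.mul 4 (Nat.land (Nat.shiftRight N sh) 63))) 15) =
      c + lookT tab ((N >>> sh) % 64) := by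
    unfold lookT
    rw [e2, e1]
    rfl
  unfold br at h
  simp only [e3] at h
  have e4 : Nat.ble (c + lookT tab ((N >>> sh) % 64)) 16 = true := Nat.ble_eq.mpr hc
  rw [e4] at h
  exact h

theorem addK_eq (N T : ℕ) : addK N T = addM N T := rfl

/-! ### What a position must satisfy -/

/-- The precision known at a stage. -/
def needF (idx r : ℕ) : ℕ := if r < idx % 28 then idx / 28 + 1 else idx / 28

theorem needF_succ {idx r : ℕ} (hr : r < 28) :
    needF (idx + 1) r = if r = idx % 28 then idx / 28 + 1 else needF idx r := by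
  unfold needF
  split_ifs <;> omega

/-- The condition on a position. -/
def StepOK (idx : ℕ) : Step → ℕ → Prop
  | .pv sh tab T, a =>
    sh = 36 + 6 * (idx % 28) ∧ tab = dtab (idx / 28) ∧ Clean T ∧
      (∀ r : Fin 28, dvF (needF idx r) (cvN T r) = true) ∧ dvF (idx / 28 + 1) (cvN T (idx % 28)) = false ∧
      dec T = lcAux a 28
  | .np sh tab, a =>
    sh = 36 + 6 * (idx % 28) ∧ tab = dtab (idx / 28) ∧
      (∀ r : Fin 28, r.val ≠ idx % 28 → dvF (4 - needF idx r) (cvN a r) = true) ∧
      dvF (3 - idx / 28) (cvN a (idx % 28)) = true ∧ dvF (4 - idx / 28) (cvN a (idx % 28)) = false ∧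
      ∀ j : Fin 28, d4 (ipE (B j) (dec a)) = true

instance (idx : ℕ) (s : Step) (a : ℕ) : Decidable (StepOK idx s a) := by
  cases s <;> (unfold StepOK; infer_instance)

/-! ### The invariant -/

section Sound

variable (y : RuVec)

/-- The code of a residue. -/
def vz (z : GaussianInt) : ℕ := (ra z).val + 8 * (rb z).val

/-- The cost of a position. -/
def dlI (i : ℕ) : ℕ := lookT (dtab (i / 28)) (vz (y (ixOf (i % 28))))

/-- The cost of the first positions. -/
def partialC (idx : ℕ) : ℕ := ∑ i ∈ Finset.range idx, dlI y i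

/-- The invariant of the search. -/
structure Inv (idx N : ℕ) : Prop where
  clean : Clean N
  mem : dec N ∈ RuLat.Lat
  dv : ∀ p, dvZ (needF idx (ixN p)) (y p - dec N p)

theorem partialC_succ (idx : ℕ) : partialC y (idx + 1) = partialC y idx + dlI y idx := by
  unfold partialC
  rw [Finset.sum_range_succ]

theorem partialC_mono {a b : ℕ} (h : a ≤ b) : partialC y a ≤ partialC y b := by
  unfold partialC
  exact Finset.sum_le_sum_of_subset (Finset.range_mono h)

theorem needF_lt {idx r : ℕ} (hidx : idx < 112) : needF idx r ≤ 4 := by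
  unfold needF
  split_ifs <;> omega

theorem dvZ_add_iff (m : ℕ) (z : GaussianInt) : dvZ m z ↔ dvT m (ra z) (rb z) = true := Iff.rfl

/-- The table only depends on the class. -/
theorem look_inv : ∀ k : Fin 4, ∀ a b a' b' : ZMod 4, dvT (k + 1) (a - a') (b - b') = true →
    lookT (dtab k) (a.val + 8 * b.val) = lookT (dtab k) (a'.val + 8 * b'.val) := by
  decide +kernel

theorem vz_dec {N : ℕ} (hN : Clean N) (p : RuIdx) : vz (dec N p) = cvN N (ixN p) := by
  have h := hN.2 ⟨ixN p, ixN_lt p⟩
  have hlt : cvN N (ixN p) < 64 := Nat.mod_lt _ (by norm_num)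
  unfold vz
  rw [ra_dec, rb_dec]
  have key : ∀ v : Fin 64, aF v ≤ 3 → bF v ≤ 3 → ((aF v : ℕ) : ZMod 4).val + 8 * ((bF v : ℕ) : ZMod 4).val = v := by
    decide +kernel
  exact key ⟨_, hlt⟩ h.1 h.2

/-- The cost read on the current vector is the cost on the target. -/
theorem cost_eq {idx N : ℕ} (hidx : idx < 112) (hN : Clean N)
    (h : dvZ (idx / 28 + 1) (y (ixOf (idx % 28)) - dec N (ixOf (idx % 28)))) :
    lookT (dtab (idx / 28)) ((N >>> (36 + 6 * (idx % 28))) % 64) = dlI y idx := by
  have hq : idx % 28 < 28 := Nat.mod_lt _ (by norm_num)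
  have h1 : (N >>> (36 + 6 * (idx % 28))) % 64 = vz (dec N (ixOf (idx % 28))) := by
    rw [vz_dec hN, ixN_ixOf hq]
    rfl
  rw [h1]
  unfold dlI
  have h2 := look_inv ⟨idx / 28, by omega⟩ _ _ _ _ (by
    have := h
    unfold dvZ at this
    rwa [ra_sub, rb_sub] at this)
  exact h2.symm

theorem inv_next {idx N : ℕ} (hI : Inv y idx N)
    (h : dvZ (idx / 28 + 1) (y (ixOf (idx % 28)) - dec N (ixOf (idx % 28)))) : Inv y (idx + 1) N := by
  refine ⟨hI.clean, hI.mem, fun p => ?_⟩
  rw [needF_succ (ixN_lt p)]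
  split_ifs with hp
  · have h1 : ixOf (idx % 28) = p := by
      rw [← hp, ixOf_ixN]
    rw [← h1]
    exact h
  · exact hI.dv p

section Four

variable (hfour : ∀ v : RuVec, (∀ p, D4 (v p)) → v ∈ RuLat.Lat)

include hfour

theorem lat_of_congr {x x' : RuVec} (hx : x ∈ RuLat.Lat) (h : ∀ p, ra (x' p) = ra (x p) ∧ rb (x' p) = rb (x p)) :
    x' ∈ RuLat.Lat := by
  have h1 : x' - x ∈ RuLat.Lat := by
    apply hfour
    intro p
    rw [D4_iff_res]
    simp only [Pi.sub_apply, ra_sub, rb_sub, (h p).1, (h p).2, sub_self, and_self]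
  have h2 := RuLat.Lat.add_mem h1 hx
  simpa using h2

theorem inv_add {idx N T a : ℕ} (hidx : idx < 112) (hI : Inv y idx N)
    (hT : Clean T) (hd : ∀ r : Fin 28, dvF (needF idx r) (cvN T r) = true)
    (hq : dvF (idx / 28 + 1) (cvN T (idx % 28)) = false) (hmem : dec T = lcAux a 28)
    (h : ¬ dvZ (idx / 28 + 1) (y (ixOf (idx % 28)) - dec N (ixOf (idx % 28)))) :
    Inv y (idx + 1) (addM N T) ∧
      dvZ (idx / 28 + 1) (y (ixOf (idx % 28)) - dec (addM N T) (ixOf (idx % 28))) := by
  have hN := hI.clean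
  have hqlt : idx % 28 < 28 := Nat.mod_lt _ (by norm_num)
  have hc := addM_clean hN hT
  have hmem1 : dec (addM N T) ∈ RuLat.Lat := by
    have h1 : dec N + dec T ∈ RuLat.Lat := RuLat.Lat.add_mem hI.mem (by rw [hmem]; exact lcAux_mem _ _)
    apply lat_of_congr hfour h1
    intro p
    simp only [Pi.add_apply, ra_add, rb_add]
    exact ⟨ra_addM hN hT p, rb_addM hN hT p⟩
  have hres : ∀ p, ra (y p - dec (addM N T) p) = ra (y p - dec N p) - ra (dec T p) ∧
      rb (y p - dec (addM N T) p) = rb (y p - dec N p) - rb (dec T p) := by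
    intro p
    simp only [ra_sub, rb_sub, ra_addM hN hT p, rb_addM hN hT p]
    constructor <;> ring
  have hlast : dvZ (idx / 28 + 1) (y (ixOf (idx % 28)) - dec (addM N T) (ixOf (idx % 28))) := by
    set p := ixOf (idx % 28) with hp
    have hpN : ixN p = idx % 28 := ixN_ixOf hqlt
    have h1 := hI.dv p
    have hneed : needF idx (ixN p) = idx / 28 := by
      unfold needF
      rw [hpN, if_neg (lt_irrefl _)]
    rw [hneed] at h1
    have h2 := hd ⟨idx % 28, hqlt⟩
    have hneed2 : needF idx (idx % 28) = idx / 28 := by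
      unfold needF
      rw [if_neg (lt_irrefl _)]
    simp only [hneed2] at h2
    have h3 := dvT_last ⟨idx / 28, by omega⟩ (ra (y p - dec N p)) (rb (y p - dec N p)) (ra (dec T p)) (rb (dec T p))
      h1 (by rw [ra_dec, rb_dec, hpN]; exact h2) (by simpa [dvZ] using h)
      (by rw [ra_dec, rb_dec, hpN]; exact hq)
    unfold dvZ
    rw [(hres p).1, (hres p).2]
    exact h3
  refine ⟨⟨hc, hmem1, fun p => ?_⟩, hlast⟩
  rw [needF_succ (ixN_lt p)]
  split_ifs with hp
  · have h1 : ixOf (idx % 28) = p := by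
      rw [← hp, ixOf_ixN]
    rw [← h1]
    exact hlast
  · have h1 := hI.dv p
    have h2 := hd ⟨ixN p, ixN_lt p⟩
    have hle : needF idx (ixN p) < 5 := Nat.lt_succ_of_le (needF_lt hidx)
    have h3 := dvT_sub ⟨_, hle⟩ (ra (y p - dec N p)) (rb (y p - dec N p)) (ra (dec T p)) (rb (dec T p))
      h1 (by rw [ra_dec, rb_dec]; exact h2)
    unfold dvZ
    rw [(hres p).1, (hres p).2]
    exact h3

end Four

theorem forced {idx N a : ℕ} (hy : y ∈ RuLat.Lat) (hidx : idx < 112) (hI : Inv y idx N)
    (h1 : ∀ r : Fin 28, r.val ≠ idx % 28 → dvF (4 - needF idx r) (cvN a r) = true)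
    (h2 : dvF (3 - idx / 28) (cvN a (idx % 28)) = true) (h3 : dvF (4 - idx / 28) (cvN a (idx % 28)) = false)
    (h4 : ∀ j : Fin 28, d4 (ipE (B j) (dec a)) = true) :
    dvZ (idx / 28 + 1) (y (ixOf (idx % 28)) - dec N (ixOf (idx % 28))) := by
  have hqlt : idx % 28 < 28 := Nat.mod_lt _ (by norm_num)
  have hz : y - dec N ∈ RuLat.Lat := RuLat.Lat.sub_mem hy hI.mem
  have hD := D4_lat' h4 hz
  set p0 := ixOf (idx % 28) with hp0
  have hp0N : ixN p0 = idx % 28 := ixN_ixOf hqlt
  have hterm : ∀ p ∈ Finset.univ.erase p0, D4 ((y - dec N) p * star (dec a p)) := by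
    intro p hp
    have hne : p ≠ p0 := Finset.ne_of_mem_erase hp
    have hne2 : ixN p ≠ idx % 28 := by
      intro h5
      apply hne
      rw [hp0, ← h5, ixOf_ixN]
    have h5 := hI.dv p
    have h6 := h1 ⟨ixN p, ixN_lt p⟩ hne2
    have hle : needF idx (ixN p) < 5 := Nat.lt_succ_of_le (needF_lt hidx)
    have h7 := dvT_term ⟨_, hle⟩ (ra (y p - dec N p)) (rb (y p - dec N p)) (ra (dec a p)) (rb (dec a p))
      h5 (by rw [ra_dec, rb_dec]; exact h6)
    rw [D4_iff_res, ra_mul_star, rb_mul_star]
    exact h7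
  have hsum : ip (y - dec N) (dec a) = (y - dec N) p0 * star (dec a p0) +
      ∑ p ∈ Finset.univ.erase p0, (y - dec N) p * star (dec a p) := by
    unfold ip
    exact (Finset.add_sum_erase Finset.univ (fun p => (y - dec N) p * star (dec a p)) (Finset.mem_univ p0)).symm
  rw [hsum] at hD
  have hlast : D4 ((y - dec N) p0 * star (dec a p0)) :=
    (dvd_add_left (Finset.dvd_sum hterm)).1 hD
  rw [D4_iff_res, ra_mul_star, rb_mul_star] at hlast
  have hneed : needF idx (ixN p0) = idx / 28 := by
    unfold needF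
    rw [hp0N, if_neg (lt_irrefl _)]
  have h5 := hI.dv p0
  rw [hneed] at h5
  have h6 := dvT_check ⟨idx / 28, by omega⟩ (ra (y p0 - dec N p0)) (rb (y p0 - dec N p0)) (ra (dec a p0)) (rb (dec a p0))
    ⟨h5, by rw [ra_dec, rb_dec, hp0N]; exact h2, by rw [ra_dec, rb_dec, hp0N]; exact h3, hlast.1, hlast.2⟩
  exact h6

/-- What the search proves. -/
theorem go_sound (hfour : ∀ v : RuVec, (∀ p, D4 (v p)) → v ∈ RuLat.Lat) (hy : y ∈ RuLat.Lat) (hbd : partialC y 112 ≤ 16)
    {leaf : ℕ → ℕ → Bool} (aux : ℕ → ℕ) :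
    ∀ (ss : List Step) (idx N c : ℕ), idx + ss.length ≤ 112 →
      (∀ i s, ss[i]? = some s → StepOK (idx + i) s (aux (idx + i))) → go leaf ss N c = true → Inv y idx N →
      c = partialC y idx → ∃ N', leaf N' (partialC y (idx + ss.length)) = true ∧ Inv y (idx + ss.length) N' := by
  intro ss
  induction ss with
  | nil =>
    intro idx N c _ _ hgo hI hc
    refine ⟨N, ?_, hI⟩
    simp only [List.length_nil, Nat.add_zero]
    rw [← hc]
    exact hgo
  | cons s ss ih =>
    intro idx N c hlen hV hgo hI hc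
    have hlen' : idx + 1 + ss.length ≤ 112 := by
      simp only [List.length_cons] at hlen
      omega
    have hidx : idx < 112 := by omega
    have hV0 : StepOK idx s (aux idx) := hV 0 s rfl
    have hV1 : ∀ i s', ss[i]? = some s' → StepOK (idx + 1 + i) s' (aux (idx + 1 + i)) := by
      intro i s' hs'
      have := hV (i + 1) s' (by simpa using hs')
      rwa [show idx + (i + 1) = idx + 1 + i by omega] at this
    have hfin : idx + (s :: ss).length = idx + 1 + ss.length := by
      simp only [List.length_cons]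
      omega
    rw [hfin]
    have hcost : partialC y (idx + 1) ≤ 16 := le_trans (partialC_mono y (by omega)) hbd
    cases s with
    | np sh tab =>
      obtain ⟨hsh, htab, h1, h2, h3, h4⟩ := hV0
      have hdv := forced y hy hidx hI h1 h2 h3 h4
      have he := cost_eq y hidx hI.clean hdv
      rw [go_np] at hgo
      have hc2 : c + lookT tab ((N >>> sh) % 64) = partialC y (idx + 1) := by
        rw [hsh, htab, he, partialC_succ, hc]
      have h5 := br_spec hgo (by rw [hc2]; exact hcost)
      rw [hc2] at h5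
      exact ih (idx + 1) N _ hlen' hV1 h5 (inv_next y hI hdv) rfl
    | pv sh tab T =>
      obtain ⟨hsh, htab, h0, h1, h2, h3⟩ := hV0
      obtain ⟨hA, hB⟩ := go_pv_spec hgo
      by_cases hdv : dvZ (idx / 28 + 1) (y (ixOf (idx % 28)) - dec N (ixOf (idx % 28)))
      · have he := cost_eq y hidx hI.clean hdv
        have hc2 : c + lookT tab ((N >>> sh) % 64) = partialC y (idx + 1) := by
          rw [hsh, htab, he, partialC_succ, hc]
        have h5 := br_spec hA (by rw [hc2]; exact hcost)
        rw [hc2] at h5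
        exact ih (idx + 1) N _ hlen' hV1 h5 (inv_next y hI hdv) rfl
      · obtain ⟨hI2, hdv2⟩ := inv_add y hfour hidx hI h0 h1 h2 h3 hdv
        have he := cost_eq y hidx hI2.clean hdv2
        have hc2 : c + lookT tab ((addM N T >>> sh) % 64) = partialC y (idx + 1) := by
          rw [hsh, htab, he, partialC_succ, hc]
        rw [addK_eq] at hB
        have h5 := br_spec hB (by rw [hc2]; exact hcost)
        rw [hc2] at h5
        exact ih (idx + 1) _ _ hlen' hV1 h5 hI2 rfl

end Sound

end Cfsg.Agent.Lib.RuBridge
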