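import Cfsg.Agent.Lib.RuLat.Parity

/-!
# The lattice of the Rudvalis group: packed vectors modulo 4

A vector modulo 4 is one number: 36 low bits (used only to spread the numbers seen by the kernel), then 6 bits per
coordinate.  Here are the arithmetic of such numbers and the residues modulo 4 of Gaussian integers.
-/

set_option autoImplicit false
set_option linter.unusedSectionVars false
set_option linter.constructorNameAsVariable false

namespace Cfsg.Agent.Lib.RuBridge

open Cfsg.Spor Cfsg.Agent.Lib.RuLat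

/-! ### Fields -/

/-- The field of a coordinate. -/
def cvN (N q : ℕ) : ℕ := (N >>> (36 + 6 * q)) % 64

/-- The real part of a field. -/
def aF (v : ℕ) : ℕ := v % 8

/-- The imaginary part of a field. -/
def bF (v : ℕ) : ℕ := v / 8

/-- The vector of a number. -/
def dec (N : ℕ) : RuVec := fun p => ⟨(aF (cvN N (ixN p)) : ℤ), (bF (cvN N (ixN p)) : ℤ)⟩

/-- A number without carries. -/
def Clean (N : ℕ) : Prop := N % 2 ^ 36 < 2 ^ 33 ∧ ∀ q : Fin 28, aF (cvN N q) ≤ 3 ∧ bF (cvN N q) ≤ 3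

instance (N : ℕ) : Decidable (Clean N) := by
  unfold Clean
  infer_instance

/-- The mask. -/
def MM : ℕ := nat_lit 0x6db6db6db6db6db6db6db6db6db6db6db6db6db6db0ffffffff

/-- The sum modulo 4. -/
def addM (N T : ℕ) : ℕ := (N + T) &&& MM

theorem digit_add (B : ℕ) (hB : 0 < B) : ∀ (q : ℕ) (A C : ℕ),
    (∀ j, j ≤ q → (A / B ^ j) % B + (C / B ^ j) % B < B) →
    ((A + C) / B ^ q) % B = (A / B ^ q) % B + (C / B ^ q) % B := by
  intro q
  induction q with
  | zero =>
    intro A C h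
    have h0 := h 0 le_rfl
    simp only [pow_zero, Nat.div_one] at h0 ⊢
    rw [Nat.add_mod, Nat.mod_eq_of_lt h0]
  | succ q ih =>
    intro A C h
    have h0 := h 0 (Nat.zero_le _)
    simp only [pow_zero, Nat.div_one] at h0
    have h1 : (A + C) / B = A / B + C / B := by
      rw [Nat.add_div hB, if_neg (by omega), Nat.add_zero]
    have e : ∀ X : ℕ, X / B ^ (q + 1) = X / B / B ^ q := by
      intro X
      rw [Nat.div_div_eq_div_mul, pow_succ']
    rw [e, e, e, h1]
    apply ih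
    intro j hj
    have := h (j + 1) (by omega)
    have e2 : ∀ X : ℕ, X / B ^ (j + 1) = X / B / B ^ j := by
      intro X
      rw [Nat.div_div_eq_div_mul, pow_succ']
    rwa [e2, e2] at this

theorem cvN_eq (N q : ℕ) : cvN N q = ((N / 2 ^ 36) / 64 ^ q) % 64 := by
  unfold cvN
  rw [Nat.shiftRight_eq_div_pow, Nat.div_div_eq_div_mul, pow_add, pow_mul]
  rfl

theorem cvN_add {N T : ℕ} (hN : Clean N) (hT : Clean T) {q : ℕ} (hq : q < 28) :
    cvN (N + T) q = cvN N q + cvN T q := by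
  have h1 : (N + T) / 2 ^ 36 = N / 2 ^ 36 + T / 2 ^ 36 := by
    rw [Nat.add_div (by norm_num), if_neg, Nat.add_zero]
    have h2 := hN.1
    have h3 := hT.1
    norm_num at h2 h3 ⊢
    omega
  rw [cvN_eq, cvN_eq, cvN_eq, h1]
  apply digit_add 64 (by norm_num)
  intro j hj
  have h4 := hN.2 ⟨j, by omega⟩
  have h5 := hT.2 ⟨j, by omega⟩
  simp only [cvN_eq, aF, bF] at h4 h5
  omega

theorem MM_field : ∀ q : Fin 28, cvN MM q = 27 := by decide +kernel

theorem MM_low : MM % 2 ^ 36 = 2 ^ 32 - 1 := by decide +kernel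

theorem cvN_and (X q : ℕ) (hq : q < 28) : cvN (X &&& MM) q = cvN X q &&& 27 := by
  have h := MM_field ⟨q, hq⟩
  unfold cvN at h ⊢
  rw [Nat.shiftRight_and_distrib, show (64 : ℕ) = 2 ^ 6 from rfl, Nat.and_mod_two_pow]
  rw [show (64 : ℕ) = 2 ^ 6 from rfl] at h
  simp only at h
  rw [h]

/-- The sum of fields. -/
def addc (u v : ℕ) : ℕ := (aF u + aF v) % 4 + 8 * ((bF u + bF v) % 4)

theorem addc_aux : ∀ u v : Fin 64, aF u ≤ 3 → bF u ≤ 3 → aF v ≤ 3 → bF v ≤ 3 →
    (u.val + v.val) &&& 27 = addc u v := by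
  decide +kernel

theorem addM_field {N T : ℕ} (hN : Clean N) (hT : Clean T) {q : ℕ} (hq : q < 28) :
    cvN (addM N T) q = addc (cvN N q) (cvN T q) := by
  unfold addM
  rw [cvN_and _ _ hq, cvN_add hN hT hq]
  have hu : cvN N q < 64 := Nat.mod_lt _ (by norm_num)
  have hv : cvN T q < 64 := Nat.mod_lt _ (by norm_num)
  have h4 := hN.2 ⟨q, hq⟩
  have h5 := hT.2 ⟨q, hq⟩
  exact addc_aux ⟨_, hu⟩ ⟨_, hv⟩ h4.1 h4.2 h5.1 h5.2

theorem addc_bd (u v : ℕ) : aF (addc u v) ≤ 3 ∧ bF (addc u v) ≤ 3 := by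
  unfold addc aF bF
  omega

theorem addM_clean {N T : ℕ} (hN : Clean N) (hT : Clean T) : Clean (addM N T) := by
  refine ⟨?_, fun q => ?_⟩
  · unfold addM
    rw [Nat.and_mod_two_pow, MM_low]
    refine lt_of_le_of_lt Nat.and_le_right ?_
    norm_num
  · rw [addM_field hN hT q.2]
    exact addc_bd _ _

theorem clean_zero : Clean 0 := by decide +kernel

/-! ### Positions -/

theorem ixN_lt (p : RuIdx) : ixN p < 28 := by
  unfold ixN
  have := p.1.2
  have := p.2.2
  omega

theorem ixOf_ixN (p : RuIdx) : ixOf (ixN p) = p := by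
  revert p
  decide +kernel

theorem ixN_ixOf {q : ℕ} (hq : q < 28) : ixN (ixOf q) = q := by
  have : ∀ q : Fin 28, ixN (ixOf q) = q := by decide +kernel
  exact this ⟨q, hq⟩

/-! ### Residues modulo 4 -/

/-- The real part modulo 4. -/
def ra (z : GaussianInt) : ZMod 4 := (z.re : ZMod 4)

/-- The imaginary part modulo 4. -/
def rb (z : GaussianInt) : ZMod 4 := (z.im : ZMod 4)

theorem ra_add (x y : GaussianInt) : ra (x + y) = ra x + ra y := by
  simp [ra]

theorem rb_add (x y : GaussianInt) : rb (x + y) = rb x + rb y := by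
  simp [rb]

theorem ra_sub (x y : GaussianInt) : ra (x - y) = ra x - ra y := by
  simp [ra, sub_eq_add_neg]

theorem rb_sub (x y : GaussianInt) : rb (x - y) = rb x - rb y := by
  simp [rb, sub_eq_add_neg]

theorem ra_mul_star (x y : GaussianInt) : ra (x * star y) = ra x * ra y + rb x * rb y := by
  simp [ra, rb, Zsqrtd.re_mul]

theorem rb_mul_star (x y : GaussianInt) : rb (x * star y) = rb x * ra y - ra x * rb y := by
  simp [ra, rb, Zsqrtd.im_mul]
  ring

theorem ra_dec (N : ℕ) (p : RuIdx) : ra (dec N p) = (aF (cvN N (ixN p)) : ZMod 4) := by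
  simp [ra, dec]

theorem rb_dec (N : ℕ) (p : RuIdx) : rb (dec N p) = (bF (cvN N (ixN p)) : ZMod 4) := by
  simp [rb, dec]

theorem D4_iff_res {z : GaussianInt} : D4 z ↔ ra z = 0 ∧ rb z = 0 := by
  rw [d4_iff]
  unfold ra rb
  rw [ZMod.intCast_zmod_eq_zero_iff_dvd, ZMod.intCast_zmod_eq_zero_iff_dvd]
  rfl

theorem addc_a : ∀ u v : Fin 64, ((aF (addc u v) : ℕ) : ZMod 4) = (aF u : ZMod 4) + (aF v : ZMod 4) := by
  decide +kernel

theorem addc_b : ∀ u v : Fin 64, ((bF (addc u v) : ℕ) : ZMod 4) = (bF u : ZMod 4) + (bF v : ZMod 4) := by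
  decide +kernel

theorem ra_addM {N T : ℕ} (hN : Clean N) (hT : Clean T) (p : RuIdx) :
    ra (dec (addM N T) p) = ra (dec N p) + ra (dec T p) := by
  rw [ra_dec, ra_dec, ra_dec, addM_field hN hT (ixN_lt p)]
  exact addc_a ⟨_, Nat.mod_lt _ (by norm_num)⟩ ⟨_, Nat.mod_lt _ (by norm_num)⟩

theorem rb_addM {N T : ℕ} (hN : Clean N) (hT : Clean T) (p : RuIdx) :
    rb (dec (addM N T) p) = rb (dec N p) + rb (dec T p) := by
  rw [rb_dec, rb_dec, rb_dec, addM_field hN hT (ixN_lt p)]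
  exact addc_b ⟨_, Nat.mod_lt _ (by norm_num)⟩ ⟨_, Nat.mod_lt _ (by norm_num)⟩

/-! ### Divisibility by the powers of `1 + i`, read modulo 4 -/

/-- Divisibility by `(1 + i) ^ m`, on the residues modulo 4. -/
def dvT (m : ℕ) (a b : ZMod 4) : Bool :=
  match m with
  | 0 => true
  | 1 => decide (a + b = 0 ∨ a + b = 2)
  | 2 => decide ((a = 0 ∨ a = 2) ∧ (b = 0 ∨ b = 2))
  | 3 => decide ((a = 0 ∨ a = 2) ∧ (b = 0 ∨ b = 2) ∧ a + b = 0)
  | _ => decide (a = 0 ∧ b = 0)

/-- Divisibility of a Gaussian integer. -/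
def dvZ (m : ℕ) (z : GaussianInt) : Prop := dvT m (ra z) (rb z) = true

/-- Divisibility of a field. -/
def dvF (m v : ℕ) : Bool := dvT m (aF v : ZMod 4) (bF v : ZMod 4)

theorem dvZ_dec (m N : ℕ) (p : RuIdx) : dvZ m (dec N p) ↔ dvF m (cvN N (ixN p)) = true := by
  unfold dvZ dvF
  rw [ra_dec, rb_dec]

theorem dvT_sub : ∀ m : Fin 5, ∀ a b c d : ZMod 4, dvT m a b = true → dvT m c d = true →
    dvT m (a - c) (b - d) = true := by
  decide +kernel

theorem dvT_last : ∀ k : Fin 4, ∀ a b c d : ZMod 4, dvT k a b = true → dvT k c d = true →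
    dvT (k + 1) a b = false → dvT (k + 1) c d = false → dvT (k + 1) (a - c) (b - d) = true := by
  decide +kernel

theorem dvT_term : ∀ m : Fin 5, ∀ a b c d : ZMod 4, dvT m a b = true → dvT (4 - m) c d = true →
    a * c + b * d = 0 ∧ b * c - a * d = 0 := by
  decide +kernel

theorem dvT_check : ∀ k : Fin 4, ∀ a b c d : ZMod 4, (dvT k a b = true ∧ dvT (3 - k) c d = true ∧
    dvT (4 - k) c d = false ∧ a * c + b * d = 0 ∧ b * c - a * d = 0) → dvT (k + 1) a b = true := by
  decide +kernel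

end Cfsg.Agent.Lib.RuBridge
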