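import Cfsg.Agent.Lib.RuBridge.Chain

/-!
# The lattice of the Rudvalis group: the group and the permutation group on the lines
-/

set_option autoImplicit false
set_option linter.unusedSectionVars false
set_option linter.constructorNameAsVariable false

namespace Cfsg.Agent.Lib.RuBridge

open Cfsg.Spor Cfsg.Agent.Lib.RuLat Equiv

open Cfsg.Agent.Lib.CosetCert
open Cfsg.Agent.Lib.CosetCert.D.Ru.Tbl (L0 L1)

theorem card_zpow : Nat.card (Subgroup.zpowers sI) = 4 := by
  rw [Nat.card_zpowers, sI_order]

theorem zpow_le_ker : Subgroup.zpowers sI ≤ rho.ker := (Subgroup.zpowers_le).2 sI_ker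

theorem zpow_le_center : Subgroup.zpowers sI ≤ Subgroup.center fourRu := (Subgroup.zpowers_le).2 sI_center

theorem card_ker_mul : Nat.card rho.ker * Nat.card rho.range = Nat.card fourRu := by
  rw [← Subgroup.index_ker]
  exact Subgroup.card_mul_index _

theorem card_L0 : Nat.card L0.G = 145926144000 := Cfsg.Agent.Lib.CosetCert.D.Ru.Final.card0

instance : Finite L0.G := Nat.finite_of_card_ne_zero (by rw [card_L0]; norm_num)

theorem card_parts : Nat.card rho.ker = 4 ∧ Nat.card rho.range = 145926144000 := by
  have h1 : 4 ≤ Nat.card rho.ker := by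
    rw [← card_zpow]
    exact Subgroup.card_le_of_le zpow_le_ker
  have h2 : 145926144000 ≤ Nat.card rho.range := by
    rw [← card_L0]
    exact Subgroup.card_le_of_le L0_le_range
  have h3 := card_ker_mul
  have h4 := card_fourRu_le
  rw [← h3] at h4
  constructor
  · by_contra hne
    have h5 : 5 ≤ Nat.card rho.ker := by omega
    have h6 : 5 * 145926144000 ≤ Nat.card rho.ker * Nat.card rho.range := Nat.mul_le_mul h5 h2
    exact absurd (h6.trans h4) (by norm_num)
  · by_contra hne
    have h5 : 145926144001 ≤ Nat.card rho.range := by omega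
    have h6 : 4 * 145926144001 ≤ Nat.card rho.ker * Nat.card rho.range := Nat.mul_le_mul h1 h5
    exact absurd (h6.trans h4) (by norm_num)

theorem ker_eq : Subgroup.zpowers sI = rho.ker :=
  Subgroup.eq_of_le_of_card_ge zpow_le_ker (by rw [card_zpow, card_parts.1])

theorem range_eq : L0.G = rho.range :=
  Subgroup.eq_of_le_of_card_ge L0_le_range (by rw [card_L0, card_parts.2])

theorem center_L0 : Subgroup.center L0.G = ⊥ := by
  have hs : IsSimpleGroup L0.G := Cfsg.Agent.Lib.CosetCert.D.Ru.Final.simple
  rcases Subgroup.Normal.eq_bot_or_eq_top (inferInstance : (Subgroup.center L0.G).Normal) with h | h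
  · exact h
  · exfalso
    have hc : ∀ a b : L0.G, a * b = b * a := by
      intro a b
      have h1 : a ∈ Subgroup.center L0.G := by
        rw [h]
        exact Subgroup.mem_top a
      exact (Subgroup.mem_center_iff.1 h1 b).symm
    letI : CommGroup L0.G := { (inferInstance : Group L0.G) with mul_comm := hc }
    have h2 : (Nat.card L0.G).Prime := IsSimpleGroup.prime_card
    rw [card_L0] at h2
    exact absurd h2 (by norm_num)

theorem center_eq_ker : Subgroup.center fourRu = rho.ker := by
  apply le_antisymm
  · intro f hf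
    have h1 : rho f ∈ L0.G := by
      rw [range_eq]
      exact ⟨f, rfl⟩
    have h2 : (⟨rho f, h1⟩ : L0.G) ∈ Subgroup.center L0.G := by
      rw [Subgroup.mem_center_iff]
      rintro ⟨g, hg⟩
      rw [range_eq] at hg
      obtain ⟨k, rfl⟩ := hg
      apply Subtype.ext
      show rho k * rho f = rho f * rho k
      rw [← map_mul, ← map_mul, (Subgroup.mem_center_iff.1 hf k)]
    rw [center_L0, Subgroup.mem_bot] at h2
    exact MonoidHom.mem_ker.2 (congrArg Subtype.val h2)
  · rw [← ker_eq]
    exact zpow_le_center

/-- The Rudvalis group of the definitions and the permutation group on the lines. -/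
noncomputable def ruIso : Ru ≃* L0.G :=
  (QuotientGroup.quotientMulEquivOfEq center_eq_ker).trans
    ((QuotientGroup.quotientKerEquivRange rho).trans (MulEquiv.subgroupCongr range_eq.symm))

theorem main : Nat.card (Subgroup.center fourRu) = 4 ∧ Nat.card Ru = 145926144000 ∧ IsSimpleGroup Ru := by
  refine ⟨by rw [center_eq_ker]; exact card_parts.1, ?_, ?_⟩
  · rw [Nat.card_congr ruIso.toEquiv, card_L0]
  · have hs : IsSimpleGroup L0.G := Cfsg.Agent.Lib.CosetCert.D.Ru.Final.simple
    exact ruIso.isSimpleGroup

end Cfsg.Agent.Lib.RuBridge
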