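import Cfsg.Agent.Lib.RuBridge.Lift

/-!
# The lattice of the Rudvalis group: products with a list of representatives, as one number
-/

set_option autoImplicit false
set_option linter.unusedSectionVars false
set_option linter.constructorNameAsVariable false

namespace Cfsg.Agent.Lib.RuBridge

open Cfsg.Spor Cfsg.Agent.Lib.RuLat

/-- The vector of a label. -/
noncomputable def V (l : ℕ) : RuVec := vecN (Rt l)

/-- The products with the list of labels, as one number. -/
noncomputable def keyOf : List ℕ → RuVec → ℤ
  | [], _ => 0
  | l :: ls, x => (ip x (V l)).re + 64 * (ip x (V l)).im + 4096 * keyOf ls x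

/-- The number for one coordinate. -/
noncomputable def keyC : List ℕ → ℕ → GaussianInt → ℤ
  | [], _, _ => 0
  | l :: ls, q, z => (z * star (V l (ixOf q))).re + 64 * (z * star (V l (ixOf q))).im + 4096 * keyC ls q z

theorem ip_range (x b : RuVec) : ip x b = ∑ q ∈ Finset.range 28, x (ixOf q) * star (b (ixOf q)) := by
  rw [sum_q28 (fun p => x p * star (b p))]
  rfl

theorem keyOf_eq (ls : List ℕ) (x : RuVec) :
    keyOf ls x = ∑ q ∈ Finset.range 28, keyC ls q (x (ixOf q)) := by
  induction ls with
  | nil => simp [keyOf, keyC]
  | cons l ls ih =>
    simp only [keyOf, keyC, ih]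
    rw [ip_range, re_sum', im_sum', Finset.mul_sum, Finset.mul_sum, ← Finset.sum_add_distrib, ← Finset.sum_add_distrib]

theorem keyOf_prefix : ∀ (J : ℕ) (ls : List ℕ) (x x' : RuVec), (∀ i, i < J → i < ls.length → ip x (V (ls.getD i 0)) = ip x' (V (ls.getD i 0))) →
    ((4096 : ℤ) ^ J) ∣ keyOf ls x - keyOf ls x' := by
  intro J
  induction J with
  | zero =>
    intro ls x x' _
    simp
  | succ J ih =>
    intro ls x x' h
    cases ls with
    | nil =>
      simp [keyOf]
    | cons l ls =>
      have h0 := h 0 (Nat.succ_pos _) (by simp)
      simp only [List.getD_cons_zero] at h0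
      have h1 := ih ls x x' (fun i hi hl => by
        have := h (i + 1) (by omega) (by simpa using hl)
        simpa using this)
      simp only [keyOf]
      rw [h0, pow_succ']
      obtain ⟨c, hc⟩ := h1
      refine ⟨c, ?_⟩
      linear_combination (4096 : ℤ) * hc

/-! ### Lists of numbers -/

/-- A test on all the numbers of a list with their positions. -/
noncomputable def allI (f : ℕ → ℕ → Bool) (l : List ℕ) : ℕ → Bool :=
  List.rec (fun _ => true) (fun k _ ih i => Bool.rec false (ih (Nat.succ i)) (f i k)) l

theorem allI_spec {f : ℕ → ℕ → Bool} : ∀ (l : List ℕ) (i : ℕ), allI f l i = true →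
    ∀ j, j < l.length → f (i + j) (l.getD j 0) = true := by
  intro l
  induction l with
  | nil =>
    intro i _ j hj
    exact absurd hj (by simp)
  | cons k l ih =>
    intro i h j hj
    have h0 : allI f (k :: l) i = Bool.rec false (allI f l (Nat.succ i)) (f i k) := rfl
    rw [h0] at h
    cases hf : f i k with
    | false =>
      rw [hf] at h
      exact absurd h (by simp)
    | true =>
      rw [hf] at h
      cases j with
      | zero => simpa using hf
      | succ j =>
        have h1 := ih _ h j (by simpa using hj)
        rw [List.getD_cons_succ, show i + (j + 1) = Nat.succ i + j by omega]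
        exact h1

/-- The positions of the numbers with a given residue. -/
noncomputable def matchL (m T : ℕ) (l : List ℕ) : ℕ → List ℕ :=
  List.rec (fun _ => []) (fun k _ ih i => Bool.rec (ih (Nat.succ i)) (i :: ih (Nat.succ i)) (Nat.beq (Nat.mod k m) T)) l

theorem mem_matchL {m T : ℕ} : ∀ (l : List ℕ) (i j : ℕ), j < l.length → (l.getD j 0) % m = T →
    i + j ∈ matchL m T l i := by
  intro l
  induction l with
  | nil =>
    intro i j hj
    exact absurd hj (by simp)
  | cons k l ih =>
    intro i j hj h
    have h0 : matchL m T (k :: l) i =
        Bool.rec (matchL m T l (Nat.succ i)) (i :: matchL m T l (Nat.succ i)) (Nat.beq (Nat.mod k m) T) := rfl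
    rw [h0]
    cases j with
    | zero =>
      have h1 : Nat.beq (Nat.mod k m) T = true := by
        have h3 : k % m = T := by simpa using h
        change Nat.beq (k % m) T = true
        rw [h3]
        exact Nat.beq_refl T
      rw [h1]
      simp
    | succ j =>
      have h2 := ih (Nat.succ i) j (by simpa using hj) (by simpa using h)
      rw [show i + (j + 1) = Nat.succ i + j by omega]
      cases Nat.beq (Nat.mod k m) T with
      | false => exact h2
      | true => exact List.mem_cons_of_mem _ h2

end Cfsg.Agent.Lib.RuBridge
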