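import Cfsg.Agent.Lib.RuBridge.Mat

/-!
# The lattice of the Rudvalis group: the lattice of the definitions is the span of the basis
-/

set_option autoImplicit false
set_option maxRecDepth 100000
set_option linter.unusedSectionVars false
set_option linter.constructorNameAsVariable false

namespace Cfsg.Agent.Lib.RuBridge

open Cfsg.Spor Cfsg.Agent.Lib.RuLat

/-- The maps closing the lattice of the definitions. -/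
def opA (o : ℕ) (v : RuVec) : RuVec :=
  match o with
  | 0 => ruRj v
  | 1 => ruRk v
  | 2 => ruSign v
  | 3 => ruShift v
  | _ => gI • v

/-- A word in these maps. -/
def wordA (w : List ℕ) (v : RuVec) : RuVec := w.foldr opA v

theorem W_closed {v : RuVec} (hv : v ∈ ruLattice) :
    gI • v ∈ ruLattice ∧ ruRj v ∈ ruLattice ∧ ruRk v ∈ ruLattice ∧ ruSign v ∈ ruLattice ∧ ruShift v ∈ ruLattice := by
  have key : ∀ {z : RuVec}, (∀ L ∈ ruClosed, z ∈ L) → z ∈ ruLattice := fun h => AddSubgroup.mem_sInf.2 h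
  have hv' : ∀ L ∈ ruClosed, v ∈ L := AddSubgroup.mem_sInf.1 hv
  exact ⟨key fun L hL => (hL.2 v (hv' L hL)).1, key fun L hL => (hL.2 v (hv' L hL)).2.1,
    key fun L hL => (hL.2 v (hv' L hL)).2.2.1, key fun L hL => (hL.2 v (hv' L hL)).2.2.2.1,
    key fun L hL => (hL.2 v (hv' L hL)).2.2.2.2⟩

theorem W_table {v : RuVec} (hv : v ∈ ruTable) : v ∈ ruLattice := by
  rw [ruLattice, AddSubgroup.mem_sInf]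
  intro L hL
  exact hL.1 v hv

theorem opA_mem (o : ℕ) {v : RuVec} (hv : v ∈ ruLattice) : opA o v ∈ ruLattice := by
  obtain ⟨h1, h2, h3, h4, h5⟩ := W_closed hv
  unfold opA
  split
  · exact h2
  · exact h3
  · exact h4
  · exact h5
  · exact h1

theorem wordA_mem (w : List ℕ) {v : RuVec} (hv : v ∈ ruLattice) : wordA w v ∈ ruLattice := by
  induction w with
  | nil => exact hv
  | cons o w ih => exact opA_mem o ih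

theorem gsmul_mem (c : GaussianInt) {v : RuVec} (hv : v ∈ ruLattice) : c • v ∈ ruLattice := by
  have h1 : c • v = c.re • v + c.im • (gI • v) := by
    funext p
    simp only [Pi.smul_apply, Pi.add_apply, smul_eq_mul, gI]
    apply Zsqrtd.ext <;> simp [Zsqrtd.re_mul, Zsqrtd.im_mul]
  rw [h1]
  exact ruLattice.add_mem (ruLattice.zsmul_mem hv _) (ruLattice.zsmul_mem (W_closed hv).1 _)

/-- Images of the generating vectors. -/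
def imgs : List (List ℕ × ℕ × ℕ) := [
  ([], 1, nat_lit 0x8060080201801ff8020180201801ff806008020180200802008020080200801ff80600802018020180200802008020080200802008020080200802008020180201802017fe00),
  ([], 2, nat_lit 0x7fe00801ff801ff8020180201802017fe0080201802008020080200802008020180600801ff802018020080200802008020080200802008020080200801ff801ff802017fe00),
  ([], 3, nat_lit 0x80600801ff8020180201801ff801ff7fe008020180200802008020080200802017fe0080201802018020080200802008020080200802008020080200801ff80201801ff7fe00),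
  ([], 5, nat_lit 0x801ff8020080201802008020080201801ff8020080200801ff802008020180201801ff80200802008020080200801ff80201801ff80200802008020180201802018020180201),
  ([], 6, nat_lit 0x802008060080200801ff806008020080200801ff801ff802008060080200802008020080600801ff80600801ff80200802008020080600801ff8020080201802018020180201),
  ([], 7, nat_lit 0x80200801ff8020080600801ff8020080200806008060080200801ff802008020080200801ff80600801ff80600802008020080200801ff806008020080201802018020180201),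
  ([], 8, nat_lit 0x80200801ff802007fe00802007fe007fe0080200802007fe00802007fe0080200802007fe00801ff8020180600802008020080200806008020180200801ff801ff8020180201),
  ([], 9, nat_lit 0x802007fe0080200801ff80200801ff8020180200802008020180200801ff802008020080201806007fe00801ff802008020080200801ff7fe0080200801ff801ff8020180201),
  ([], 10, nat_lit 0x7fe00802008060080200801ff8020080200806008060080200801ff80200802018020180200802008020080200806007fe0080201802008020080201801ff801ff8020180201),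
  ([], 11, nat_lit 0x802018020080201802007fe0080200802008020180201802007fe00802007fe00806008020080200802008020080201802018060080200802007fe00801ff801ff8020180201),
  ([], 12, nat_lit 0x802007fe0080200801ff801ff80200802007fe00806008020080201802007fe007fe008020080200806008020180200802007fe0080200802007fe00801ff80201801ff80201),
  ([], 13, nat_lit 0x802008020180200806007fe008020080200801ff801ff802007fe0080200801ff802018020080200801ff7fe008020080200802018020080200801ff801ff80201801ff80201),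
  ([], 14, nat_lit 0x8020180200802018020080200806007fe00802008020080600802007fe008020080200801ff806008020080200802018020180200801ff8060080200801ff80201801ff80201),
  ([], 15, nat_lit 0x80600802007fe0080200802008020180201802008020080201802008020180200802007fe00802018020080200806007fe00802007fe008020180200801ff80201801ff80201),
  ([], 16, nat_lit 0x7fe00802007fe00802007fe008020080200801ff802018020080600802008020080200801ff7fe0080200802007fe007fe008020080201806008020080201801ff801ff80201),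
  ([], 17, nat_lit 0x8020180200801ff80200802018020080200806007fe0080200801ff8020080200802007fe00801ff802008020080201801ff802007fe00801ff8020080201801ff801ff80201),
  ([], 18, nat_lit 0x80200801ff80200806008020080201802018020080200802018020080201806007fe008020080200801ff8060080200802008060080200802007fe0080201801ff801ff80201),
  ([0], 1, nat_lit 0x801ff80600806007fe00802018020180600801ff802008020080200802007fe00801ff80600806008020080200802008020080200802008020080200801ff802018020180600),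
  ([1], 1, nat_lit 0x801ff806007fe00806008060080600801ff7fe0080200802008020080200802018060080201801ff80200802008020080200802008020080200802008020180201801ff80600),
  ([3], 1, nat_lit 0x8020180201802017fe008060080201801ff8020180201801ff806008020180200802008020080200801ff8060080201802018020080200802008020080200802008020080200),
  ([1], 2, nat_lit 0x801ff80600806007fe007fe0080600801ff8060080200802008020080200801ff80600801ff801ff80200802008020080200802008020080200802008020180201802017fe00),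
  ([0], 5, nat_lit 0x80200801ff8020080600801ff80200802007fe0080201802008060080200802018020180200802008020080200806007fe0080200801ff8060080200801ff802018060080600),
  ([1], 5, nat_lit 0x80201802008020180200801ff8020080200806008020080600802007fe008020080200801ff7fe00801ff806008020080200802008060080201802008020180600801ff80600),
  ([3], 5, nat_lit 0x80201802018020180201801ff8020080201802008020080201801ff8020080200801ff802008020180201801ff80200802008020080200801ff80201801ff802008020080201),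
  ([3], 6, nat_lit 0x80201802018020180201802008060080200801ff806008020080200801ff801ff802008060080200802008020080600801ff80600801ff80200802008020080600801ff80200),
  ([3, 3], 5, nat_lit 0x801ff80200802008020180201802018020180201801ff8020080201802008020080201801ff8020080200801ff802008020180201801ff80200802008020080200801ff80201)]

/-- The words for four times the coordinate vectors. -/
def frW : List (List ℕ) := [[], [4, 2, 0], [4, 2, 1], [4, 0, 1], [3, 3, 3, 3, 3, 3], [4, 3, 3, 3, 3, 3, 3, 2, 0], [4, 3, 3, 3, 3, 3, 3, 2, 1], [4, 3, 3, 3, 3, 3, 3, 0, 1], [3, 3, 3, 3, 3], [4, 3, 3, 3, 3, 3, 2, 0], [4, 3, 3, 3, 3, 3, 2, 1], [4, 3, 3, 3, 3, 3, 0, 1], [3, 3, 3, 3], [4, 3, 3, 3, 3, 2, 0], [4, 3, 3, 3, 3, 2, 1], [4, 3, 3, 3, 3, 0, 1], [3, 3, 3], [4, 3, 3, 3, 2, 0], [4, 3, 3, 3, 2, 1], [4, 3, 3, 3,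 0, 1], [3, 3], [4, 3, 3, 2, 0], [4, 3, 3, 2, 1], [4, 3, 3, 0, 1], [3], [4, 3, 2, 0], [4, 3, 2, 1], [4, 3, 0, 1]]

/-- The basis vectors modulo 4. -/
def bcert : List (List (ℕ × GaussianInt)) := [
  [(0, ⟨0, 1⟩), (1, ⟨0, 3⟩), (2, ⟨3, 3⟩), (3, ⟨2, 0⟩), (4, ⟨0, 1⟩), (6, ⟨0, 1⟩), (7, ⟨1, 0⟩), (8, ⟨3, 1⟩), (9, ⟨0, 1⟩), (10, ⟨2, 2⟩), (11, ⟨2, 3⟩), (12, ⟨1, 1⟩), (13, ⟨3, 3⟩), (14, ⟨1, 0⟩), (16, ⟨1, 0⟩), (17, ⟨2, 0⟩), (18, ⟨3, 0⟩), (19, ⟨1, 1⟩), (23, ⟨2, 1⟩)],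
  [(0, ⟨0, 2⟩), (2, ⟨3, 3⟩), (3, ⟨0, 1⟩), (4, ⟨1, 0⟩), (5, ⟨2, 0⟩), (6, ⟨2, 3⟩), (7, ⟨1, 1⟩), (8, ⟨3, 0⟩), (10, ⟨1, 0⟩), (11, ⟨0, 1⟩), (13, ⟨3, 3⟩), (14, ⟨1, 0⟩), (15, ⟨0, 1⟩), (17, ⟨1, 0⟩), (18, ⟨2, 0⟩), (20, ⟨1, 0⟩), (21, ⟨1, 1⟩), (22, ⟨1, 0⟩), (23, ⟨1, 1⟩), (24, ⟨1, 0⟩), (25, ⟨1, 0⟩)],
  [(0, ⟨2, 3⟩), (1, ⟨1, 1⟩), (2, ⟨3, 3⟩), (3, ⟨3, 3⟩), (4, ⟨3, 2⟩), (5, ⟨3, 3⟩), (6, ⟨0, 1⟩), (7, ⟨0, 3⟩), (8, ⟨2, 2⟩), (9, ⟨2, 2⟩), (10, ⟨3, 0⟩), (11, ⟨2, 0⟩), (12, ⟨3, 0⟩), (13, ⟨0, 3⟩), (14, ⟨2, 0⟩), (15, ⟨3, 0⟩), (17, ⟨2, 0⟩), (18, ⟨1, 0⟩), (19, ⟨1, 1⟩), (21, ⟨2, 1⟩), (22, ⟨2, 0⟩), (23, ⟨3, 0⟩), (24, ⟨1, 0⟩), (25, ⟨1, 0⟩)],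
  [(0, ⟨3, 2⟩), (4, ⟨1, 1⟩), (5, ⟨3, 1⟩), (6, ⟨3, 3⟩), (7, ⟨1, 0⟩), (8, ⟨2, 3⟩), (9, ⟨1, 3⟩), (10, ⟨0, 3⟩), (11, ⟨1, 3⟩), (12, ⟨2, 3⟩), (13, ⟨2, 0⟩), (14, ⟨2, 0⟩), (15, ⟨3, 0⟩), (17, ⟨1, 0⟩), (18, ⟨2, 0⟩), (19, ⟨1, 0⟩), (20, ⟨1, 0⟩), (23, ⟨1, 1⟩)],
  [(0, ⟨2, 3⟩), (1, ⟨0, 3⟩), (2, ⟨2, 2⟩), (3, ⟨3, 1⟩), (4, ⟨0, 3⟩), (5, ⟨2, 0⟩), (6, ⟨0, 2⟩), (7, ⟨3, 1⟩), (8, ⟨2, 2⟩), (9, ⟨1, 1⟩), (10, ⟨3, 0⟩), (11, ⟨2, 3⟩), (12, ⟨3, 1⟩), (13, ⟨2, 3⟩), (14, ⟨3, 0⟩), (15, ⟨2, 0⟩), (16, ⟨1, 0⟩), (17, ⟨1, 0⟩), (18, ⟨3, 0⟩), (19, ⟨2, 1⟩), (21, ⟨1, 0⟩), (22, ⟨1, 0⟩), (23, ⟨1, 1⟩)],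
  [(0, ⟨1, 2⟩), (1, ⟨1, 1⟩), (2, ⟨0, 3⟩), (3, ⟨2, 2⟩), (4, ⟨1, 1⟩), (5, ⟨0, 1⟩), (6, ⟨3, 2⟩), (7, ⟨2, 0⟩), (9, ⟨0, 1⟩), (10, ⟨3, 3⟩), (11, ⟨3, 0⟩), (13, ⟨1, 0⟩), (14, ⟨2, 1⟩), (19, ⟨1, 1⟩), (21, ⟨1, 0⟩), (22, ⟨1, 0⟩), (23, ⟨1, 1⟩)],
  [(0, ⟨0, 2⟩), (2, ⟨0, 2⟩), (4, ⟨1, 3⟩), (5, ⟨0, 1⟩), (6, ⟨2, 3⟩), (7, ⟨3, 2⟩), (8, ⟨3, 0⟩), (9, ⟨3, 3⟩), (10, ⟨3, 0⟩), (11, ⟨3, 3⟩), (13, ⟨2, 3⟩), (14, ⟨2, 1⟩), (15, ⟨2, 3⟩), (18, ⟨3, 0⟩), (19, ⟨2, 1⟩), (20, ⟨1, 0⟩), (21, ⟨2, 1⟩), (22, ⟨1, 0⟩), (23, ⟨1, 1⟩)],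
  [(0, ⟨3, 0⟩), (1, ⟨3, 3⟩), (2, ⟨2, 3⟩), (3, ⟨3, 2⟩), (4, ⟨2, 2⟩), (5, ⟨0, 1⟩), (6, ⟨2, 1⟩), (7, ⟨3, 2⟩), (8, ⟨1, 3⟩), (9, ⟨2, 0⟩), (10, ⟨3, 0⟩), (11, ⟨0, 3⟩), (13, ⟨2, 1⟩), (14, ⟨2, 0⟩), (15, ⟨2, 0⟩), (16, ⟨1, 0⟩), (17, ⟨3, 0⟩), (18, ⟨1, 0⟩), (21, ⟨1, 1⟩)],
  [(0, ⟨2, 0⟩), (1, ⟨1, 1⟩), (2, ⟨3, 3⟩), (3, ⟨1, 1⟩), (4, ⟨2, 1⟩), (5, ⟨3, 2⟩), (6, ⟨3, 3⟩), (7, ⟨1, 3⟩), (8, ⟨2, 3⟩), (9, ⟨1, 1⟩), (10, ⟨0, 2⟩), (11, ⟨2, 1⟩), (13, ⟨2, 2⟩), (14, ⟨1, 1⟩), (16, ⟨3, 0⟩), (18, ⟨2, 0⟩), (19, ⟨1, 1⟩), (20, ⟨1, 0⟩), (21, ⟨2, 1⟩), (22, ⟨2, 0⟩), (23, ⟨0, 1⟩), (24, ⟨1, 0⟩)],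
  [(0, ⟨2, 1⟩), (1, ⟨0, 1⟩), (2, ⟨3, 0⟩), (3, ⟨2, 0⟩), (4, ⟨3, 0⟩), (5, ⟨0, 2⟩), (6, ⟨2, 2⟩), (7, ⟨1, 1⟩), (8, ⟨2, 3⟩), (9, ⟨1, 1⟩), (10, ⟨2, 2⟩), (11, ⟨3, 2⟩), (12, ⟨3, 0⟩), (13, ⟨3, 3⟩), (14, ⟨1, 1⟩), (15, ⟨1, 1⟩), (16, ⟨3, 0⟩), (18, ⟨3, 0⟩), (20, ⟨1, 0⟩), (21, ⟨2, 1⟩), (22, ⟨2, 0⟩), (23, ⟨0, 1⟩), (24, ⟨1, 0⟩)],
  [(0, ⟨2, 3⟩), (1, ⟨0, 1⟩), (3, ⟨3, 0⟩), (4, ⟨2, 0⟩), (5, ⟨0, 3⟩), (6, ⟨1, 3⟩), (7, ⟨1, 3⟩), (8, ⟨3, 3⟩), (10, ⟨3, 1⟩), (11, ⟨3, 1⟩), (12, ⟨0, 1⟩), (13, ⟨2, 3⟩), (14, ⟨2, 3⟩), (15, ⟨1, 3⟩), (16, ⟨3, 0⟩), (18, ⟨3, 0⟩), (19, ⟨1, 1⟩), (20, ⟨1, 0⟩)],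
  [(0, ⟨3, 3⟩), (1, ⟨1, 1⟩), (2, ⟨3, 0⟩), (3, ⟨2, 0⟩), (5, ⟨0, 1⟩), (6, ⟨0, 2⟩), (7, ⟨2, 3⟩), (8, ⟨1, 1⟩), (9, ⟨0, 3⟩), (10, ⟨1, 1⟩), (11, ⟨3, 1⟩), (13, ⟨1, 2⟩), (14, ⟨2, 2⟩), (15, ⟨1, 0⟩), (16, ⟨3, 0⟩), (19, ⟨2, 1⟩), (20, ⟨1, 0⟩)],
  [(0, ⟨2, 1⟩), (2, ⟨1, 1⟩), (3, ⟨2, 3⟩), (4, ⟨2, 2⟩), (5, ⟨2, 3⟩), (6, ⟨0, 3⟩), (7, ⟨2, 1⟩), (8, ⟨1, 1⟩), (9, ⟨2, 0⟩), (10, ⟨1, 1⟩), (11, ⟨0, 1⟩), (12, ⟨2, 0⟩), (13, ⟨1, 0⟩), (17, ⟨2, 0⟩), (18, ⟨1, 0⟩), (21, ⟨1, 1⟩)],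
  [(0, ⟨3, 2⟩), (2, ⟨3, 0⟩), (3, ⟨0, 1⟩), (4, ⟨1, 3⟩), (5, ⟨2, 2⟩), (6, ⟨1, 2⟩), (7, ⟨1, 2⟩), (8, ⟨2, 0⟩), (9, ⟨3, 0⟩), (10, ⟨2, 0⟩), (11, ⟨2, 1⟩), (12, ⟨2, 0⟩), (13, ⟨3, 3⟩), (14, ⟨1, 2⟩), (15, ⟨0, 3⟩), (16, ⟨3, 0⟩), (17, ⟨3, 0⟩), (19, ⟨1, 1⟩), (20, ⟨1, 0⟩), (21, ⟨1, 1⟩)],
  [(0, ⟨1, 1⟩), (1, ⟨1, 0⟩), (2, ⟨3, 3⟩), (3, ⟨3, 3⟩), (4, ⟨3, 3⟩), (5, ⟨1, 1⟩), (6, ⟨1, 0⟩), (7, ⟨0, 3⟩), (8, ⟨1, 2⟩), (9, ⟨0, 1⟩), (10, ⟨0, 3⟩), (11, ⟨0, 1⟩), (12, ⟨3, 0⟩), (13, ⟨0, 3⟩), (18, ⟨1, 0⟩), (19, ⟨1, 1⟩)],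
  [(0, ⟨3, 3⟩), (1, ⟨1, 0⟩), (2, ⟨3, 3⟩), (4, ⟨2, 1⟩), (5, ⟨2, 1⟩), (6, ⟨3, 3⟩), (7, ⟨1, 0⟩), (8, ⟨1, 2⟩), (9, ⟨2, 0⟩), (10, ⟨0, 1⟩), (11, ⟨2, 3⟩), (12, ⟨2, 3⟩), (13, ⟨2, 1⟩), (14, ⟨3, 2⟩), (15, ⟨1, 1⟩), (16, ⟨1, 0⟩), (18, ⟨1, 0⟩)],
  [(0, ⟨3, 3⟩), (1, ⟨1, 1⟩), (2, ⟨3, 0⟩), (3, ⟨3, 2⟩), (4, ⟨1, 3⟩), (5, ⟨1, 3⟩), (6, ⟨1, 0⟩), (7, ⟨0, 3⟩), (8, ⟨1, 0⟩), (9, ⟨2, 1⟩), (10, ⟨0, 3⟩), (11, ⟨0, 1⟩), (12, ⟨1, 0⟩), (13, ⟨1, 3⟩), (14, ⟨2, 1⟩), (16, ⟨3, 0⟩), (19, ⟨2, 1⟩), (20, ⟨1, 0⟩)],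
  [(3, ⟨2, 3⟩), (4, ⟨2, 0⟩), (5, ⟨2, 2⟩), (6, ⟨1, 1⟩), (7, ⟨2, 1⟩), (8, ⟨3, 0⟩), (9, ⟨0, 1⟩), (10, ⟨0, 1⟩), (11, ⟨3, 3⟩), (12, ⟨2, 2⟩), (13, ⟨1, 1⟩), (14, ⟨1, 0⟩), (15, ⟨1, 1⟩)],
  [(0, ⟨3, 3⟩), (1, ⟨1, 1⟩), (2, ⟨3, 0⟩), (3, ⟨2, 2⟩), (4, ⟨2, 1⟩), (5, ⟨2, 0⟩), (6, ⟨3, 0⟩), (7, ⟨1, 0⟩), (8, ⟨2, 1⟩), (9, ⟨1, 0⟩), (10, ⟨1, 0⟩), (11, ⟨0, 2⟩), (12, ⟨2, 1⟩), (13, ⟨2, 3⟩), (14, ⟨3, 2⟩), (16, ⟨3, 0⟩), (19, ⟨1, 0⟩), (20, ⟨1, 0⟩)],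
  [],
  [(3, ⟨1, 0⟩), (4, ⟨1, 3⟩), (5, ⟨2, 2⟩), (6, ⟨3, 2⟩), (7, ⟨3, 1⟩), (8, ⟨3, 3⟩), (9, ⟨3, 1⟩), (10, ⟨1, 1⟩), (11, ⟨2, 3⟩), (12, ⟨1, 2⟩), (13, ⟨2, 1⟩), (14, ⟨1, 0⟩), (15, ⟨1, 1⟩)],
  [(0, ⟨3, 3⟩), (2, ⟨3, 3⟩), (3, ⟨1, 1⟩), (4, ⟨3, 1⟩), (5, ⟨1, 3⟩), (6, ⟨3, 3⟩), (7, ⟨1, 1⟩), (8, ⟨1, 3⟩), (9, ⟨1, 1⟩), (10, ⟨3, 1⟩), (12, ⟨1, 1⟩), (13, ⟨3, 3⟩), (14, ⟨1, 1⟩), (15, ⟨3, 3⟩), (19, ⟨1, 1⟩)],
  [(0, ⟨3, 3⟩), (2, ⟨3, 3⟩), (3, ⟨3, 0⟩), (4, ⟨1, 3⟩), (5, ⟨2, 0⟩), (6, ⟨0, 2⟩), (7, ⟨2, 1⟩), (8, ⟨0, 1⟩), (9, ⟨3, 0⟩), (10, ⟨3, 0⟩), (11, ⟨3, 3⟩), (14, ⟨1, 0⟩), (19, ⟨1, 1⟩)],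
  [],
  [(3, ⟨1, 3⟩), (5, ⟨0, 2⟩), (6, ⟨2, 0⟩), (7, ⟨1, 1⟩), (8, ⟨1, 3⟩), (9, ⟨3, 3⟩), (10, ⟨3, 3⟩), (14, ⟨1, 1⟩)],
  [],
  [],
  []]

/-- The image of a number. -/
def imgV (j : ℕ) : RuVec := mkV ((imgs.getD j ([], 0, zeroC)).2.2)

/-- A combination of images. -/
def combI (l : List (ℕ × GaussianInt)) : RuVec := l.foldr (fun t acc => t.2 • imgV t.1 + acc) 0

set_option maxRecDepth 1000000 in
theorem imgs_ok : ∀ j : Fin 26, imgV j = wordA (imgs.getD j ([], 0, zeroC)).1 (ruTable.getD (imgs.getD j ([], 0, zeroC)).2.1 0) := by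
  decide +kernel

set_option maxRecDepth 1000000 in
theorem frW_ok : ∀ q : Fin 28, (Pi.single (ixOf q) ⟨4, 0⟩ : RuVec) = wordA (frW.getD q []) (ruTable.getD 0 0) := by
  decide +kernel

set_option maxRecDepth 1000000 in
theorem bcert_ok : ∀ k : Fin 28, ∀ p : RuIdx, d4 (B k p - combI (bcert.getD k []) p) = true := by
  decide +kernel

theorem table_mem {n : ℕ} (hn : n < 20) : ruTable.getD n 0 ∈ ruLattice := by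
  have hlen : ruTable.length = 20 := by decide +kernel
  rw [List.getD_eq_getElem _ _ (by rw [hlen]; exact hn)]
  exact W_table (List.getElem_mem _)

theorem imgV_mem (j : ℕ) : imgV j ∈ ruLattice := by
  by_cases hj : j < 26
  · have h1 := imgs_ok ⟨j, hj⟩
    simp only at h1
    rw [h1]
    apply wordA_mem
    have h2 : ∀ j : Fin 26, (imgs.getD j ([], 0, zeroC)).2.1 < 20 := by decide +kernel
    exact table_mem (h2 ⟨j, hj⟩)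
  · have hlen : imgs.length = 26 := by decide +kernel
    have : imgV j = 0 := by
      unfold imgV
      rw [List.getD_eq_default _ _ (by rw [hlen]; omega)]
      exact mkV_zeroC
    rw [this]
    exact ruLattice.zero_mem

theorem combI_mem (l : List (ℕ × GaussianInt)) : combI l ∈ ruLattice := by
  induction l with
  | nil => exact ruLattice.zero_mem
  | cons t l ih => exact ruLattice.add_mem (gsmul_mem _ (imgV_mem _)) ih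

theorem hfourW (v : RuVec) (h : ∀ p, D4 (v p)) : v ∈ ruLattice := by
  choose w hw using h
  have h1 : v = ∑ p, w p • (Pi.single p ⟨4, 0⟩ : RuVec) := by
    funext r
    rw [Finset.sum_apply]
    simp only [Pi.smul_apply, smul_eq_mul, Pi.single_apply]
    rw [Finset.sum_eq_single r]
    · rw [if_pos rfl, hw r, mul_comm]
      rfl
    · intro b _ hb
      rw [if_neg (Ne.symm hb), mul_zero]
    · intro h2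
      exact absurd (Finset.mem_univ r) h2
  rw [h1]
  apply ruLattice.sum_mem
  intro p _
  apply gsmul_mem
  have h2 := frW_ok ⟨ixN p, ixN_lt p⟩
  simp only at h2
  rw [ixOf_ixN] at h2
  rw [h2]
  exact wordA_mem _ (table_mem (by norm_num))

theorem B_mem_W (k : ℕ) : B k ∈ ruLattice := by
  by_cases hk : k < 28
  · have h1 : B k - combI (bcert.getD k []) ∈ ruLattice := by
      apply hfourW
      intro p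
      exact D4_of_d4 (bcert_ok ⟨k, hk⟩ p)
    have h2 := ruLattice.add_mem h1 (combI_mem (bcert.getD k []))
    simpa using h2
  · rw [B_eq_zero (not_lt.1 hk)]
    exact ruLattice.zero_mem

theorem Lat_le_W {x : RuVec} (hx : x ∈ RuLat.Lat) : x ∈ ruLattice := by
  induction hx using Submodule.span_induction with
  | mem x hx =>
    obtain ⟨k, rfl⟩ := hx
    exact B_mem_W k
  | zero => exact ruLattice.zero_mem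
  | add x y _ _ h1 h2 => exact ruLattice.add_mem h1 h2
  | smul a x _ h1 => exact gsmul_mem a h1

theorem mem_W_iff {x : RuVec} : x ∈ ruLattice ↔ x ∈ RuLat.Lat := ⟨ruLattice_le x, fun h => Lat_le_W h⟩

end Cfsg.Agent.Lib.RuBridge
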