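import Cfsg.Agent.Lib.RuBridge.Mat

/-!
# The lattice of the Rudvalis group: matrices permuting the representatives of the lines
-/

set_option autoImplicit false
set_option linter.unusedSectionVars false
set_option linter.constructorNameAsVariable false

namespace Cfsg.Agent.Lib.RuBridge

open Cfsg.Spor Cfsg.Agent.Lib.RuLat

/-- The size of a cell. -/
def P568 : ℕ := nat_lit 0x10000000000000000000000000000000000000000000000000000000000000000000000000000000000000000000000000000000000000000000000000000000000000000000000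

/-- The offset of a cell. -/
def C560 : ℕ := nat_lit 0x100000000000000000000000000000000000000000000000000000000000000000000000000000000000000000000000000000000000000000000000000000000000000000000

/-- The test for a line. -/
noncomputable def relB (T TI : List ℕ) (F ph : ℕ → ℕ) (l : ℕ) : Bool :=
  Nat.beq (Nat.add (loopS 568 P568 (ph l) T (Rt l) 0) (Nat.mul 84 C560))
    (Nat.mul 4 (loopS 568 P568 0 TI (Rt (F l)) 0))

theorem iP_zero_smul (v : RuVec) : iP 0 • v = v := by
  funext p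
  show iP 0 * v p = v p
  have : iP 0 = 1 := rfl
  rw [this, one_mul]

theorem matL_eq_sum (G : ℕ → ℕ) (x : RuVec) : matL G x = ∑ q ∈ Finset.range 28, x (ixOf q) • vecN (G q) := by
  funext p
  rw [matL_apply_eq, sumQ_range, Finset.sum_apply]
  rfl

theorem sum_single_range (x : RuVec) : x = ∑ q ∈ Finset.range 28, (Pi.single (ixOf q) (x (ixOf q)) : RuVec) := by
  rw [sum_q28 (fun p => (Pi.single p (x p) : RuVec))]
  exact (Finset.univ_sum_single x).symm

theorem evA_g4 (v : RuVec) : evA (g4 • v) = 4 * evA v := by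
  have h : g4 • v = v + v + v + v := by
    funext p
    simp only [Pi.smul_apply, Pi.add_apply, smul_eq_mul]
    apply Zsqrtd.ext <;> simp [Zsqrtd.re_mul, Zsqrtd.im_mul] <;> ring
  rw [h, map_add, map_add, map_add]
  ring

theorem gval_bd : ∀ d e : Fin 16, |(gval d * gval e).re| ≤ 16 ∧ |(gval d * gval e).im| ≤ 16 := by
  decide +kernel

theorem gval4_bd : ∀ d : Fin 16, |(g4 * gval d).re| ≤ 16 ∧ |(g4 * gval d).im| ≤ 16 := by
  decide +kernel

theorem card_idx : (Finset.univ : Finset RuIdx).card = 28 := rfl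

theorem re_sum_idx (g : RuIdx → GaussianInt) : (∑ r, g r).re = ∑ r, (g r).re := re_sum' _ _

theorem im_sum' {ι : Type*} (t : Finset ι) (f : ι → GaussianInt) : (∑ p ∈ t, f p).im = ∑ p ∈ t, (f p).im := by
  classical
  induction t using Finset.induction_on with
  | empty => simp
  | insert a t ha ih => rw [Finset.sum_insert ha, Finset.sum_insert ha, Zsqrtd.im_add, ih]

theorem matL_bd (G : ℕ → ℕ) {u : ℕ} (hu : u < 4) (R : ℕ) (p : RuIdx) :
    |(matL G (iP u • vecN R) p).re| ≤ 448 ∧ |(matL G (iP u • vecN R) p).im| ≤ 448 := by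
  have hterm : ∀ r, |((iP u • vecN R) r * vecN (G (ixN r)) p).re| ≤ 16 ∧ |((iP u • vecN R) r * vecN (G (ixN r)) p).im| ≤ 16 := by
    intro r
    rw [iP_vecN hu]
    exact gval_bd ⟨_, mulD_lt _ _⟩ ⟨_, Nat.mod_lt _ (by norm_num)⟩
  constructor
  · unfold matL
    rw [re_sum_idx]
    refine (Finset.abs_sum_le_sum_abs _ _).trans ?_
    refine (Finset.sum_le_sum (fun r _ => (hterm r).1)).trans ?_
    rw [Finset.sum_const, card_idx]
    norm_num
  · unfold matL
    rw [im_sum']
    refine (Finset.abs_sum_le_sum_abs _ _).trans ?_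
    refine (Finset.sum_le_sum (fun r _ => (hterm r).2)).trans ?_
    rw [Finset.sum_const, card_idx]
    norm_num

theorem evA_inj' {v w : RuVec} (hv : ∀ p, |(v p).re| ≤ 448 ∧ |(v p).im| ≤ 448)
    (hw : ∀ p, |(w p).re| ≤ 16 ∧ |(w p).im| ≤ 16) (h : evA v = evA w) : v = w := by
  have h1 : evR (v - w) 28 = 0 := by
    have h2 : evA (v - w) = 0 := by
      rw [map_sub, h, sub_self]
    exact h2
  have hb : ∀ p, |((v - w) p).re| < 512 ∧ |((v - w) p).im| < 512 := by
    intro p
    have h3 := hv p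
    have h4 := hw p
    rw [abs_le, abs_le] at h3 h4
    rw [abs_lt, abs_lt]
    simp only [Pi.sub_apply, sub_eq_add_neg, Zsqrtd.re_add, Zsqrtd.im_add, Zsqrtd.re_neg, Zsqrtd.im_neg]
    omega
  have h5 := evR_inj (v - w) hb 28 h1
  funext p
  have h6 := h5 (ixN p) (ixN_lt p)
  rw [ixOf_ixN, Pi.sub_apply, sub_eq_zero] at h6
  exact h6

/-- The meaning of the test for a line. -/
theorem rel_of_relB {T TI : List ℕ} {G F ph : ℕ → ℕ} (hT : T.length = 28) (hTI : TI.length = 28)
    (hcT : ∀ q : Fin 28, ∀ d : Fin 9, (cellAt 568 P568 (T.getD q 0) d : ℤ) = evA (gval d • vecN (G q)) + (C560 : ℤ))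
    (hcI : ∀ q : Fin 28, ∀ d : Fin 9, (cellAt 568 P568 (TI.getD q 0) d : ℤ) = evA (Pi.single (ixOf q) (gval d)) + (C560 : ℤ))
    {l : ℕ} (hph : ph l < 4) (h : relB T TI F ph l = true) :
    matL G (iP (ph l) • vecN (Rt l)) = g4 • vecN (Rt (F l)) := by
  have h1 := Nat.eq_of_beq_eq_true h
  have h2 := loopS_val hT hph (fun q z => evA (z • vecN (G q))) (C560 : ℤ) hcT (Rt l)
  have h3 := loopS_val hTI (Nat.zero_lt_succ 3) (fun q z => evA (Pi.single (ixOf q) z)) (C560 : ℤ) hcI (Rt (F l))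
  rw [iP_zero_smul] at h3
  have h4 : ∑ q ∈ Finset.range 28, evA (((iP (ph l) • vecN (Rt l)) (ixOf q)) • vecN (G q)) =
      evA (matL G (iP (ph l) • vecN (Rt l))) := by
    rw [matL_eq_sum, map_sum]
  have h5 : ∑ q ∈ Finset.range 28, evA (Pi.single (ixOf q) (vecN (Rt (F l)) (ixOf q))) = evA (vecN (Rt (F l))) := by
    rw [← map_sum, ← sum_single_range]
  rw [h4] at h2
  rw [h5] at h3
  have h6 : ((loopS 568 P568 (ph l) T (Rt l) 0 + 84 * C560 : ℕ) : ℤ) = ((4 * loopS 568 P568 0 TI (Rt (F l)) 0 : ℕ) : ℤ) :=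
    congrArg (fun n : ℕ => (n : ℤ)) h1
  push_cast at h6
  rw [h2, h3] at h6
  have h7 : evA (matL G (iP (ph l) • vecN (Rt l))) = evA (g4 • vecN (Rt (F l))) := by
    rw [evA_g4]
    linarith
  refine evA_inj' (fun p => matL_bd G hph _ p) (fun p => ?_) h7
  exact gval4_bd ⟨_, Nat.mod_lt _ (by norm_num)⟩

/-! ### What a letter needs -/

/-- A matrix acting on the representatives as a given function. -/
def HasLift (F : ℕ → ℕ) : Prop :=
  ∃ G H cG cH ph : ℕ → ℕ, MatOK G H cG cH ∧ (∀ l, l < 4060 → ph l < 4) ∧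
    ∀ l, l < 4060 → matL G (iP (ph l) • vecN (Rt l)) = g4 • vecN (Rt (F l))

end Cfsg.Agent.Lib.RuBridge
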