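import Cfsg.Agent.Lib.RuBridge.Keys
import Cfsg.Agent.Lib.RuBridge.Cover
import Cfsg.Agent.Lib.RuBridge.Lattice
import Cfsg.Agent.Lib.RuBridge.Let0
import Cfsg.Agent.Lib.RuBridge.Let1
import Cfsg.Agent.Lib.RuBridge.Let2
import Cfsg.Agent.Lib.RuBridge.Let3
import Cfsg.Agent.Lib.CosetCert.D.Ru.Final

/-!
# The lattice of the Rudvalis group: the representatives of the lines
-/

set_option autoImplicit false
set_option linter.unusedSectionVars false
set_option linter.constructorNameAsVariable false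

namespace Cfsg.Agent.Lib.RuBridge

open Cfsg.Spor Cfsg.Agent.Lib.RuLat Equiv

open Cfsg.Agent.Lib.CosetCert
open Cfsg.Agent.Lib.CosetCert.D.Ru.Tbl (L0 L1)

/-- The points. -/
abbrev Pt : Type := Fin 4060

/-- The base point. -/
abbrev p0 : Pt := Cfsg.Agent.Lib.CosetCert.D.Ru.Lv0.Ok.p

theorem level0 : LevelResult L0.G L1.G p0 4060 Cfsg.Agent.Lib.CosetCert.D.Ru.Lv0.Ok.pt :=
  Cfsg.Agent.Lib.CosetCert.D.Ru.Lv0.Ok.result

theorem orbit0 (c : Pt) : ∃ g ∈ L0.G, g p0 = c := by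
  obtain ⟨g, hg, h⟩ := level0.orbit c c.2
  exact ⟨g, hg, Fin.ext h⟩

theorem L0_k : L0.k = 4 := rfl

theorem L0_F (l x : ℕ) : L0.F l x = D.Ru.Tbl.F0 l x := rfl

theorem lift_of {l : ℕ} (hl : l < 4) : HasLift (D.Ru.Tbl.F0 l) := by
  interval_cases l
  · exact Let0.result
  · exact Let1.result
  · exact Let2.result
  · exact Let3.result

theorem val_coe {l : ℕ} (hl : l < 4) (x : Pt) : ((L0.val l x : Pt) : ℕ) = D.Ru.Tbl.F0 l x :=
  L0.val_apply (by rw [L0_k]; exact hl) x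

theorem inv_self (g : Perm Pt) (a : Pt) : g⁻¹ (g a) = a := by simp

/-! ### Properties closed under products extend to the group -/

theorem perm_inv_of {Q : Perm Pt → Prop} (h1 : Q 1) (hmul : ∀ g h, Q g → Q h → Q (g * h)) {g : Perm Pt} (hg : Q g) :
    Q g⁻¹ := by
  have hpow : ∀ n : ℕ, Q (g ^ n) := by
    intro n
    induction n with
    | zero => simpa using h1
    | succ n ih =>
      rw [pow_succ]
      exact hmul _ _ ih hg
  have h2 : g⁻¹ = g ^ (orderOf g - 1) := by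
    apply inv_eq_of_mul_eq_one_right
    rw [← pow_succ', Nat.sub_add_cancel (orderOf_pos g), pow_orderOf_eq_one]
  rw [h2]
  exact hpow _

theorem group_of_letters {Q : Perm Pt → Prop} (h1 : Q 1) (hmul : ∀ g h, Q g → Q h → Q (g * h))
    (hl : ∀ l, l < 4 → Q (L0.val l)) {g : Perm Pt} (hg : g ∈ L0.G) : Q g := by
  unfold Letters.G at hg
  induction hg using Subgroup.closure_induction with
  | mem x hx =>
    obtain ⟨l, hl', rfl⟩ := hx
    exact hl l hl'
  | one => exact h1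
  | mul x y _ _ hx hy => exact hmul _ _ hx hy
  | inv x _ hx => exact perm_inv_of h1 hmul hx

/-! ### Units and matrices -/

theorem iP_norm (u : ℕ) : (iP u).norm = 1 := by
  have h : ∀ a : Fin 4, (iP a.val).norm = 1 := by decide +kernel
  rw [← iP_mod]
  exact h ⟨u % 4, Nat.mod_lt _ (by norm_num)⟩

theorem iP_smul_smul (u v : ℕ) (x : RuVec) : iP u • iP v • x = iP (u + v) • x := by
  rw [smul_smul, iP_add]

theorem iP_four_mul (u : ℕ) (k : ℕ) (h : (u + k) % 4 = 0) (x : RuVec) : iP u • iP k • x = x := by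
  rw [iP_smul_smul, ← iP_mod, h]
  exact iP_zero_smul x

/-- The inverse exponent. -/
def uInv (u : ℕ) : ℕ := (4 - u % 4) % 4

theorem add_uInv (u : ℕ) : (uInv u + u) % 4 = 0 := by
  unfold uInv
  omega

theorem uInv_add (u : ℕ) : (u + uInv u) % 4 = 0 := by
  unfold uInv
  omega

theorem uInv_lt (u : ℕ) : uInv u < 4 := Nat.mod_lt _ (by norm_num)

theorem uInv_uInv {u : ℕ} (hu : u < 4) : uInv (uInv u) = u := by
  unfold uInv
  omega

theorem V_lift {F G ph : ℕ → ℕ}
    (h : ∀ l, l < 4060 → matL G (iP (ph l) • vecN (Rt l)) = g4 • vecN (Rt (F l))) {a : ℕ} (ha : a < 4060) :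
    matL G (V a) = g4 • (iP (uInv (ph a)) • V (F a)) := by
  have h1 := h a ha
  rw [matL_smul] at h1
  have h2 : iP (uInv (ph a)) • (iP (ph a) • matL G (vecN (Rt a))) = iP (uInv (ph a)) • (g4 • vecN (Rt (F a))) := by
    rw [h1]
  rw [iP_four_mul _ _ (add_uInv _)] at h2
  rw [smul_comm g4]
  exact h2

/-! ### Two representatives of the same line -/

/-- Two representatives differing by a unit. -/
def Asc (a b : ℕ) : Prop := ∃ u : ℕ, V a = iP u • V b

theorem asc_refl (a : ℕ) : Asc a a := ⟨0, (iP_zero_smul _).symm⟩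

theorem asc_symm {a b : ℕ} (h : Asc a b) : Asc b a := by
  obtain ⟨u, hu⟩ := h
  refine ⟨uInv u, ?_⟩
  rw [hu, iP_four_mul _ _ (add_uInv u)]

theorem asc_trans {a b c : ℕ} (h : Asc a b) (h' : Asc b c) : Asc a c := by
  obtain ⟨u, hu⟩ := h
  obtain ⟨v, hv⟩ := h'
  refine ⟨u + v, ?_⟩
  rw [hu, hv, iP_smul_smul]

theorem asc_of_smul {a b u v : ℕ} (h : iP u • V a = iP v • V b) : Asc a b := by
  refine ⟨uInv u + v, ?_⟩
  rw [← iP_smul_smul, ← h, iP_four_mul _ _ (add_uInv u)]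

theorem letter_asc {F : ℕ → ℕ} (hF : HasLift F) {a b : ℕ} (ha : a < 4060) (hb : b < 4060) (h : Asc a b) :
    Asc (F a) (F b) := by
  obtain ⟨G, H, cG, cH, ph, hM, hph, hr⟩ := hF
  obtain ⟨u, hu⟩ := h
  have h1 := V_lift hr ha
  have h2 := V_lift hr hb
  rw [hu, matL_smul, h2, smul_comm] at h1
  have h3 := g4_smul_inj h1
  rw [iP_smul_smul] at h3
  exact asc_symm (asc_of_smul h3)

theorem asc_group {g : Perm Pt} (hg : g ∈ L0.G) {a b : Pt} (h : Asc a b) : Asc (g a) (g b) := by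
  let Q : Perm Pt → Prop := fun g => ∀ a b : Pt, Asc a b → Asc (g a) (g b)
  have hQ : Q g := by
    refine group_of_letters (Q := Q) (fun a b h => h) (fun g g' h1 h2 a b h => h1 _ _ (h2 _ _ h)) ?_ hg
    intro l hl a b h
    rw [val_coe hl, val_coe hl]
    exact letter_asc (lift_of hl) a.2 b.2 h
  exact hQ a b h

/-! ### The representatives lie in the lattice -/

/-- The representatives in the lattice with the right norm. -/
def Good (l : ℕ) : Prop := V l ∈ RuLat.Lat ∧ ruNorm (V l) = 16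

theorem letter_good {F : ℕ → ℕ} (hF : HasLift F) {a : ℕ} (ha : a < 4060) (h : Good a) : Good (F a) := by
  obtain ⟨G, H, cG, cH, ph, hM, hph, hr⟩ := hF
  have hx : iP (ph a) • V a ∈ RuLat.Lat := RuLat.Lat.smul_mem _ h.1
  have hn : ruNorm (iP (ph a) • V a) = 16 := by
    rw [ruNorm_smul, iP_norm, one_mul, h.2]
  obtain ⟨h1, h2⟩ := matD_spec hM.latG hx
  have h3 := hr a ha
  have h4 : matD G (iP (ph a) • V a) = V (F a) := g4_smul_inj (h2.symm.trans h3)
  rw [h4] at h1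
  refine ⟨h1, ?_⟩
  rw [← h4, ruNorm_matD hM.orth hM.latG hx, hn]

theorem good_group {g : Perm Pt} (hg : g ∈ L0.G) {a : Pt} (h : Good a) : Good (g a) := by
  let Q : Perm Pt → Prop := fun g => ∀ a : Pt, Good a → Good (g a)
  have hQ : Q g := by
    refine group_of_letters (Q := Q) (fun a h => h) (fun g g' h1 h2 a h => h1 _ (h2 _ h)) ?_ hg
    intro l hl a h
    rw [val_coe hl]
    exact letter_good (lift_of hl) a.2 h
  exact hQ a h

theorem frame_V {q : ℕ} (hq : q < 28) : frLab.getD q 0 < 4060 ∧ V (frLab.getD q 0) = (Pi.single (ixOf q) ⟨4, 0⟩ : RuVec) :=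
  frLab_ok ⟨q, hq⟩

theorem four_single_mem (p : RuIdx) : (Pi.single p ⟨4, 0⟩ : RuVec) ∈ RuLat.Lat := by
  apply hfour
  intro r
  by_cases h : r = p
  · subst h
    simp only [Pi.single_eq_same]
    exact ⟨⟨1, 0⟩, by decide⟩
  · rw [Pi.single_eq_of_ne h]
    exact ⟨0, by simp⟩

theorem four_single_norm (p : RuIdx) : ruNorm (Pi.single p ⟨4, 0⟩ : RuVec) = 16 := by
  unfold ruNorm
  rw [Finset.sum_eq_single p]
  · simp only [Pi.single_eq_same]
    rfl
  · intro b _ hb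
    rw [Pi.single_eq_of_ne hb]
    rfl
  · intro h
    exact absurd (Finset.mem_univ p) h

theorem good_frame {q : ℕ} (hq : q < 28) : Good (frLab.getD q 0) := by
  unfold Good
  rw [(frame_V hq).2]
  exact ⟨four_single_mem _, four_single_norm _⟩

theorem all_good (a : Pt) : Good a := by
  obtain ⟨h0, -⟩ := frame_V (q := 0) (by norm_num)
  obtain ⟨g, hg, hgp⟩ := orbit0 ⟨_, h0⟩
  obtain ⟨k, hk, hkp⟩ := orbit0 a
  have h1 : Good ((⟨_, h0⟩ : Pt) : ℕ) := good_frame (q := 0) (by norm_num)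
  have h2 := good_group (L0.G.mul_mem hk (L0.G.inv_mem hg)) h1
  rw [Perm.mul_apply, ← hgp, inv_self, hkp] at h2
  exact h2

/-! ### Different labels give different lines -/

theorem not_asc_frames : ¬ Asc (frLab.getD 0 0) (frLab.getD 1 0) := by
  rintro ⟨u, hu⟩
  rw [(frame_V (q := 0) (by norm_num)).2, (frame_V (q := 1) (by norm_num)).2] at hu
  have h1 := congrFun hu (ixOf 0)
  have h2 : ixOf 0 ≠ ixOf 1 := by decide
  simp only [Pi.smul_apply, Pi.single_eq_same, Pi.single_eq_of_ne h2, smul_zero] at h1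
  exact absurd h1 (by decide)

/-- The elements moving the base point on its line. -/
def Kasc : Subgroup (Perm Pt) where
  carrier := {g | g ∈ L0.G ∧ Asc (g p0) p0}
  one_mem' := ⟨L0.G.one_mem, asc_refl _⟩
  mul_mem' := by
    rintro g h ⟨hg, hg'⟩ ⟨hh, hh'⟩
    exact ⟨L0.G.mul_mem hg hh, asc_trans (asc_group hg hh') hg'⟩
  inv_mem' := by
    rintro g ⟨hg, hg'⟩
    refine ⟨L0.G.inv_mem hg, ?_⟩
    have h1 := asc_group (L0.G.inv_mem hg) hg'
    rw [inv_self] at h1
    exact asc_symm h1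

theorem Kasc_eq : Kasc = L1.G := by
  by_contra hne
  have hSK : L1.G ≤ Kasc := by
    intro g hg
    refine ⟨level0.le hg, ?_⟩
    rw [level0.fix g hg]
    exact asc_refl _
  have h1 := Cfsg.Agent.Lib.CosetCert.D.Ru.Final.hmax Kasc hSK (fun g hg => hg.1) hne
  apply not_asc_frames
  obtain ⟨g, hg, hgp⟩ := orbit0 ⟨_, (frame_V (q := 0) (by norm_num)).1⟩
  obtain ⟨k, hk, hkp⟩ := orbit0 ⟨_, (frame_V (q := 1) (by norm_num)).1⟩
  rw [← h1] at hg hk
  have h2 := hg.2
  have h3 := hk.2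
  rw [hgp] at h2
  rw [hkp] at h3
  exact asc_trans h2 (asc_symm h3)

theorem asc_unique {a b : Pt} (h : Asc a b) : a = b := by
  obtain ⟨g, hg, rfl⟩ := orbit0 a
  obtain ⟨k, hk, rfl⟩ := orbit0 b
  have h1 := asc_group (L0.G.inv_mem hk) h
  rw [inv_self, ← Perm.mul_apply] at h1
  have h2 : k⁻¹ * g ∈ Kasc := ⟨L0.G.mul_mem (L0.G.inv_mem hk) hg, h1⟩
  rw [Kasc_eq] at h2
  have h3 := level0.fix _ h2
  rw [Perm.mul_apply, Perm.inv_eq_iff_eq] at h3
  exact h3

end Cfsg.Agent.Lib.RuBridge
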