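import Cfsg.Agent.Lib.RuBridge.Cover0
import Cfsg.Prelude.Def_Spor_Ru

/-!
# The lattice of the Rudvalis group: automorphisms from matrices, and sums in the kernel
-/

set_option autoImplicit false
set_option linter.unusedSectionVars false
set_option linter.constructorNameAsVariable false

namespace Cfsg.Agent.Lib.RuBridge

open Cfsg.Spor Cfsg.Agent.Lib.RuLat

/-! ### The sum over the coordinates -/

/-- The explicit sum over the 28 coordinates. -/
def sumQ (g : ℕ → GaussianInt) : GaussianInt :=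
  g 0 + g 1 + g 2 + g 3 + g 4 + g 5 + g 6 + g 7 + g 8 + g 9 + g 10 + g 11 + g 12 + g 13 + g 14 + g 15 + g 16 +
    g 17 + g 18 + g 19 + g 20 + g 21 + g 22 + g 23 + g 24 + g 25 + g 26 + g 27

theorem sumQ_range (g : ℕ → GaussianInt) : sumQ g = ∑ q ∈ Finset.range 28, g q := by
  simp only [Finset.sum_range_succ, Finset.sum_range_zero, zero_add]
  rfl

/-! ### Matrices -/

/-- The linear map with given columns. -/
def matL (G : ℕ → ℕ) (x : RuVec) : RuVec := fun p => ∑ r, x r * vecN (G (ixN r)) p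

theorem matL_apply_eq (G : ℕ → ℕ) (x : RuVec) (p : RuIdx) :
    matL G x p = sumQ (fun q => x (ixOf q) * vecN (G q) p) := by
  unfold matL
  rw [sumQ_range, ← sum_q28]
  apply Finset.sum_congr rfl
  intro q hq
  rw [ixN_ixOf (Finset.mem_range.1 hq)]

theorem matL_add (G : ℕ → ℕ) (x y : RuVec) : matL G (x + y) = matL G x + matL G y := by
  funext p
  simp only [matL, Pi.add_apply, add_mul, Finset.sum_add_distrib]

theorem matL_smul (G : ℕ → ℕ) (c : GaussianInt) (x : RuVec) : matL G (c • x) = c • matL G x := by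
  funext p
  simp only [matL, Pi.smul_apply, smul_eq_mul, Finset.mul_sum, mul_assoc]

theorem matL_zero (G : ℕ → ℕ) : matL G 0 = 0 := by
  funext p
  simp [matL]

/-- Four as a Gaussian integer. -/
abbrev g4 : GaussianInt := ⟨4, 0⟩

theorem g4_smul_inj {a b : RuVec} (h : g4 • a = g4 • b) : a = b := by
  funext p
  have h1 := congrFun h p
  simp only [Pi.smul_apply, smul_eq_mul] at h1
  have hne : g4 ≠ 0 := by decide
  exact mul_left_cancel₀ hne h1

/-- The conditions on a matrix and its inverse. -/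
structure MatOK (G H cG cH : ℕ → ℕ) : Prop where
  orth : ∀ r s : Fin 28, ipE (vecN (G r)) (vecN (G s)) = if r = s then ⟨16, 0⟩ else 0
  invG : ∀ s : Fin 28, ∀ p : RuIdx, sumQ (fun r => vecN (H s) (ixOf r) * vecN (G r) p) = if ixN p = s then ⟨16, 0⟩ else 0
  invH : ∀ s : Fin 28, ∀ p : RuIdx, sumQ (fun r => vecN (G s) (ixOf r) * vecN (H r) p) = if ixN p = s then ⟨16, 0⟩ else 0
  latG : ∀ k : Fin 28, ∀ p : RuIdx, sumQ (fun r => B k (ixOf r) * vecN (G r) p) = g4 * lcAux (cG k) 28 p
  latH : ∀ k : Fin 28, ∀ p : RuIdx, sumQ (fun r => B k (ixOf r) * vecN (H r) p) = g4 * lcAux (cH k) 28 p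

/-- Division by 4. -/
def div4 (v : RuVec) : RuVec := fun p => ⟨(v p).re / 4, (v p).im / 4⟩

theorem div4_smul (w : RuVec) : div4 (g4 • w) = w := by
  funext p
  apply Zsqrtd.ext
  · simp [div4, Zsqrtd.re_mul]
  · simp [div4, Zsqrtd.im_mul]

/-- The map of a matrix on the lattice. -/
def matD (G : ℕ → ℕ) (x : RuVec) : RuVec := div4 (matL G x)

theorem matL_mem_aux {G c : ℕ → ℕ} (h : ∀ k : Fin 28, ∀ p : RuIdx, sumQ (fun r => B k (ixOf r) * vecN (G r) p) = g4 * lcAux (c k) 28 p)
    {x : RuVec} (hx : x ∈ RuLat.Lat) : ∃ w ∈ RuLat.Lat, matL G x = g4 • w := by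
  induction hx using Submodule.span_induction with
  | mem x hx =>
    obtain ⟨k, rfl⟩ := hx
    by_cases hk : k < 28
    · refine ⟨lcAux (c k) 28, lcAux_mem _ _, ?_⟩
      funext p
      rw [matL_apply_eq]
      exact h ⟨k, hk⟩ p
    · rw [B_eq_zero (not_lt.1 hk), matL_zero]
      exact ⟨0, RuLat.Lat.zero_mem, by simp⟩
  | zero =>
    rw [matL_zero]
    exact ⟨0, RuLat.Lat.zero_mem, by simp⟩
  | add x y _ _ h1 h2 =>
    obtain ⟨a, ha, ea⟩ := h1
    obtain ⟨b, hb, eb⟩ := h2
    refine ⟨a + b, RuLat.Lat.add_mem ha hb, ?_⟩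
    rw [matL_add, ea, eb, smul_add]
  | smul c x _ h1 =>
    obtain ⟨a, ha, ea⟩ := h1
    refine ⟨c • a, RuLat.Lat.smul_mem _ ha, ?_⟩
    rw [matL_smul, ea, smul_comm]

theorem matD_spec {G c : ℕ → ℕ} (h : ∀ k : Fin 28, ∀ p : RuIdx, sumQ (fun r => B k (ixOf r) * vecN (G r) p) = g4 * lcAux (c k) 28 p)
    {x : RuVec} (hx : x ∈ RuLat.Lat) : matD G x ∈ RuLat.Lat ∧ matL G x = g4 • matD G x := by
  obtain ⟨w, hw, e⟩ := matL_mem_aux h hx
  have : matD G x = w := by
    unfold matD
    rw [e, div4_smul]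
  rw [this]
  exact ⟨hw, e⟩

theorem matL_matL {G H : ℕ → ℕ} (h : ∀ s : Fin 28, ∀ p : RuIdx, sumQ (fun r => vecN (G s) (ixOf r) * vecN (H r) p) = if ixN p = s then ⟨16, 0⟩ else 0)
    (x : RuVec) : matL H (matL G x) = (⟨16, 0⟩ : GaussianInt) • x := by
  funext p
  rw [matL_apply_eq]
  have h1 : ∀ q : ℕ, matL G x (ixOf q) * vecN (H q) p = ∑ r, x r * (vecN (G (ixN r)) (ixOf q) * vecN (H q) p) := by
    intro q
    unfold matL
    rw [Finset.sum_mul]
    exact Finset.sum_congr rfl fun r _ => mul_assoc _ _ _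
  have h2 : sumQ (fun q => matL G x (ixOf q) * vecN (H q) p) =
      ∑ r, x r * sumQ (fun q => vecN (G (ixN r)) (ixOf q) * vecN (H q) p) := by
    simp only [h1]
    unfold sumQ
    simp only [mul_add, Finset.sum_add_distrib]
  rw [h2]
  have h3 : ∀ r, sumQ (fun q => vecN (G (ixN r)) (ixOf q) * vecN (H q) p) = if p = r then ⟨16, 0⟩ else 0 := by
    intro r
    have h4 := h ⟨ixN r, ixN_lt r⟩ p
    simp only at h4
    rw [h4]
    by_cases hpr : p = r
    · subst hpr
      simp
    · rw [if_neg hpr, if_neg]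
      intro h5
      apply hpr
      rw [← ixOf_ixN p, h5, ixOf_ixN]
  simp only [h3]
  rw [Finset.sum_eq_single p]
  · simp [mul_comm]
  · intro b _ hb
    rw [if_neg (Ne.symm hb), mul_zero]
  · intro h5
    exact absurd (Finset.mem_univ p) h5

/-! ### The norm -/

theorem ip_matL {G : ℕ → ℕ} (h : ∀ r s : Fin 28, ipE (vecN (G r)) (vecN (G s)) = if r = s then ⟨16, 0⟩ else 0)
    (x : RuVec) : ip (matL G x) (matL G x) = (⟨16, 0⟩ : GaussianInt) * ip x x := by
  have h1 : ∀ r s : RuIdx, ip (vecN (G (ixN r))) (vecN (G (ixN s))) = if r = s then ⟨16, 0⟩ else 0 := by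
    intro r s
    have h2 := h ⟨ixN r, ixN_lt r⟩ ⟨ixN s, ixN_lt s⟩
    simp only [Fin.mk.injEq] at h2
    rw [ip_eq_ipE, h2]
    by_cases hrs : r = s
    · subst hrs
      simp
    · rw [if_neg hrs, if_neg]
      intro h5
      apply hrs
      rw [← ixOf_ixN r, h5, ixOf_ixN]
  have h3 : ip (matL G x) (matL G x) = ∑ r, ∑ s, x r * star (x s) * ip (vecN (G (ixN r))) (vecN (G (ixN s))) := by
    have hp : ∀ p, matL G x p * star (matL G x p) =
        ∑ r, ∑ s, x r * star (x s) * (vecN (G (ixN r)) p * star (vecN (G (ixN s)) p)) := by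
      intro p
      unfold matL
      rw [star_sum, Finset.sum_mul_sum]
      apply Finset.sum_congr rfl
      intro r _
      apply Finset.sum_congr rfl
      intro s _
      rw [star_mul']
      ring
    unfold ip
    simp only [hp]
    rw [Finset.sum_comm]
    apply Finset.sum_congr rfl
    intro r _
    rw [Finset.sum_comm]
    apply Finset.sum_congr rfl
    intro s _
    rw [Finset.mul_sum]
  rw [h3]
  simp only [h1]
  unfold ip
  rw [Finset.mul_sum]
  apply Finset.sum_congr rfl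
  intro r _
  rw [Finset.sum_eq_single r]
  · rw [if_pos rfl]
    ring
  · intro b _ hb
    rw [if_neg (Ne.symm hb), mul_zero]
  · intro h5
    exact absurd (Finset.mem_univ r) h5

theorem ruNorm_matL {G : ℕ → ℕ} (h : ∀ r s : Fin 28, ipE (vecN (G r)) (vecN (G s)) = if r = s then ⟨16, 0⟩ else 0)
    (x : RuVec) : ruNorm (matL G x) = 16 * ruNorm x := by
  rw [ruNorm_eq_ip, ip_matL h, ruNorm_eq_ip, Zsqrtd.re_mul]
  simp

theorem ruNorm_g4 (w : RuVec) : ruNorm (g4 • w) = 16 * ruNorm w := by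
  rw [ruNorm_smul]
  rfl

theorem ruNorm_matD {G c : ℕ → ℕ} (h : ∀ r s : Fin 28, ipE (vecN (G r)) (vecN (G s)) = if r = s then ⟨16, 0⟩ else 0)
    (hl : ∀ k : Fin 28, ∀ p : RuIdx, sumQ (fun r => B k (ixOf r) * vecN (G r) p) = g4 * lcAux (c k) 28 p)
    {x : RuVec} (hx : x ∈ RuLat.Lat) : ruNorm (matD G x) = ruNorm x := by
  have h1 := ruNorm_matL h x
  rw [(matD_spec hl hx).2, ruNorm_g4] at h1
  omega

/-! ### Sums of cells -/

/-- A cell of a column. -/
noncomputable def cellAt (W P col d : ℕ) : ℕ := Nat.mod (Nat.shiftRight col (Nat.mul W d)) P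

/-- The sum of the cells of the columns selected by a vector. -/
noncomputable def loopS (W P u : ℕ) (T : List ℕ) : ℕ → ℕ → ℕ :=
  List.rec (fun _ acc => acc) (fun col _ ih R acc =>
    ih (Nat.shiftRight R 4) (Nat.add acc (cellAt W P col (mulD u (Nat.land R 15))))) T

theorem loopS_eq (W P u : ℕ) : ∀ (T : List ℕ) (R acc : ℕ), loopS W P u T R acc =
    acc + ∑ j ∈ Finset.range T.length, cellAt W P (T.getD j 0) (mulD u (dig R j)) := by
  intro T
  induction T with
  | nil =>
    intro R acc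
    simp
    rfl
  | cons col T ih =>
    intro R acc
    have h0 : loopS W P u (col :: T) R acc =
        loopS W P u T (Nat.shiftRight R 4) (Nat.add acc (cellAt W P col (mulD u (Nat.land R 15)))) := rfl
    rw [h0, ih, List.length_cons, Finset.sum_range_succ']
    have e0 : dig R 0 = Nat.land R 15 := by
      rw [land15]
      simp [dig]
    have e1 : ∀ j, dig (Nat.shiftRight R 4) j = dig R (j + 1) := by
      intro j
      unfold dig
      rw [show Nat.shiftRight R 4 = R >>> 4 from rfl, shift_add']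
      congr 2
      ring
    simp only [e1, List.getD_cons_succ, List.getD_cons_zero, e0]
    show acc + cellAt W P col (mulD u (Nat.land R 15)) + _ = _
    ring

theorem mulD_lt9 : ∀ u : Fin 4, ∀ d : Fin 16, mulD u d < 9 := by decide +kernel

/-- What the sum of the cells is. -/
theorem loopS_val {W P u : ℕ} {T : List ℕ} (hlen : T.length = 28) (hu : u < 4) (φ : ℕ → GaussianInt → ℤ) (C : ℤ)
    (hT : ∀ q : Fin 28, ∀ d : Fin 9, (cellAt W P (T.getD q 0) d : ℤ) = φ q (gval d) + C) (R : ℕ) :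
    (loopS W P u T R 0 : ℤ) = ∑ q ∈ Finset.range 28, φ q ((iP u • vecN R) (ixOf q)) + 28 * C := by
  rw [loopS_eq, hlen, Nat.zero_add]
  push_cast
  have h1 : ∀ q ∈ Finset.range 28, (cellAt W P (T.getD q 0) (mulD u (dig R q)) : ℤ) =
      φ q ((iP u • vecN R) (ixOf q)) + C := by
    intro q hq
    have hq' := Finset.mem_range.1 hq
    have hdig : dig R q < 16 := Nat.mod_lt _ (by norm_num)
    have h2 := hT ⟨q, hq'⟩ ⟨mulD u (dig R q), mulD_lt9 ⟨u, hu⟩ ⟨_, hdig⟩⟩
    simp only at h2
    rw [h2, iP_vecN hu, ixN_ixOf hq']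
  rw [Finset.sum_congr rfl h1, Finset.sum_add_distrib]
  simp

/-! ### One number for a vector -/

/-- One number for a vector. -/
def evR (v : RuVec) : ℕ → ℤ
  | 0 => 0
  | n + 1 => evR v n + ((v (ixOf n)).re + 1024 * (v (ixOf n)).im) * ((Nat.pow 1048576 n : ℕ) : ℤ)

theorem evR_add (v w : RuVec) (n : ℕ) : evR (v + w) n = evR v n + evR w n := by
  induction n with
  | zero => simp [evR]
  | succ n ih =>
    simp only [evR, ih, Pi.add_apply, Zsqrtd.re_add, Zsqrtd.im_add]
    ring

theorem evR_zero (n : ℕ) : evR 0 n = 0 := by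
  induction n with
  | zero => rfl
  | succ n ih =>
    simp only [evR, ih, Pi.zero_apply]
    simp

/-- The additive map. -/
def evA : RuVec →+ ℤ where
  toFun v := evR v 28
  map_zero' := evR_zero 28
  map_add' v w := evR_add v w 28

theorem evR_bound (v : RuVec) (hv : ∀ p, |(v p).re| < 512 ∧ |(v p).im| < 512) (n : ℕ) :
    2 * |evR v n| < (1048576 : ℤ) ^ n := by
  induction n with
  | zero => simp [evR]
  | succ n ih =>
    have h1 := hv (ixOf n)
    rw [abs_lt, abs_lt] at h1
    obtain ⟨⟨h2, h3⟩, h4, h5⟩ := h1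
    have h6 : ((Nat.pow 1048576 n : ℕ) : ℤ) = (1048576 : ℤ) ^ n := by
      rw [Nat.pow_eq]
      push_cast
      rfl
    simp only [evR, h6]
    have hp : (0 : ℤ) < (1048576 : ℤ) ^ n := by positivity
    set T := (v (ixOf n)).re + 1024 * (v (ixOf n)).im with hT
    have hT1 : 2 * |T| + 1 ≤ 1048576 := by
      have : |T| ≤ 524031 := by
        rw [abs_le]
        constructor <;> omega
      omega
    have h7 : |evR v n + T * (1048576 : ℤ) ^ n| ≤ |evR v n| + |T| * (1048576 : ℤ) ^ n := by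
      refine (abs_add_le _ _).trans ?_
      rw [abs_mul, abs_of_pos hp]
    rw [pow_succ]
    nlinarith

theorem evR_inj (v : RuVec) (hv : ∀ p, |(v p).re| < 512 ∧ |(v p).im| < 512) (n : ℕ) (h : evR v n = 0) :
    ∀ q, q < n → v (ixOf q) = 0 := by
  induction n with
  | zero =>
    intro q hq
    omega
  | succ n ih =>
    have h6 : ((Nat.pow 1048576 n : ℕ) : ℤ) = (1048576 : ℤ) ^ n := by
      rw [Nat.pow_eq]
      push_cast
      rfl
    simp only [evR, h6] at h
    have hb := evR_bound v hv n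
    have hp : (0 : ℤ) < (1048576 : ℤ) ^ n := by positivity
    set T := (v (ixOf n)).re + 1024 * (v (ixOf n)).im with hT
    have hT0 : T = 0 := by
      by_contra hne
      have h1 : 1 ≤ |T| := Int.one_le_abs hne
      have h2 : evR v n = -(T * (1048576 : ℤ) ^ n) := by linarith
      rw [h2, abs_neg, abs_mul, abs_of_pos hp] at hb
      nlinarith
    have hev : evR v n = 0 := by
      rw [hT0] at h
      simpa using h
    intro q hq
    by_cases hqn : q < n
    · exact ih hev q hqn
    · have hqe : q = n := by omega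
      subst hqe
      have h1 := hv (ixOf q)
      rw [abs_lt, abs_lt] at h1
      apply Zsqrtd.ext <;> simp only [Zsqrtd.re_zero, Zsqrtd.im_zero] <;> omega

theorem evA_inj {v w : RuVec} (hv : ∀ p, |(v p).re| < 256 ∧ |(v p).im| < 256)
    (hw : ∀ p, |(w p).re| < 256 ∧ |(w p).im| < 256) (h : evA v = evA w) : v = w := by
  have h1 : evR (v - w) 28 = 0 := by
    have h2 : evA (v - w) = 0 := by
      rw [map_sub, h, sub_self]
    exact h2
  have hb : ∀ p, |((v - w) p).re| < 512 ∧ |((v - w) p).im| < 512 := by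
    intro p
    have h3 := hv p
    have h4 := hw p
    rw [abs_lt, abs_lt] at h3 h4 ⊢
    simp only [Pi.sub_apply, sub_eq_add_neg, Zsqrtd.re_add, Zsqrtd.im_add, Zsqrtd.re_neg, Zsqrtd.im_neg]
    omega
  have h5 := evR_inj (v - w) hb 28 h1
  funext p
  have h6 := h5 (ixN p) (ixN_lt p)
  rw [ixOf_ixN, Pi.sub_apply, sub_eq_zero] at h6
  exact h6

end Cfsg.Agent.Lib.RuBridge
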