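import Cfsg.Agent.Lib.RuBridge.Dfs
import Cfsg.Agent.Lib.TC.Enc

/-!
# The lattice of the Rudvalis group: the vectors of norm 16 as numbers

A vector with entries `0`, units and four times units is one number, with 4 bits per coordinate.
-/

set_option autoImplicit false
set_option linter.unusedSectionVars false
set_option linter.constructorNameAsVariable false

namespace Cfsg.Agent.Lib.RuBridge

open Cfsg.Spor Cfsg.Agent.Lib.RuLat

/-- The values of the digits. -/
def gval (d : ℕ) : GaussianInt :=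
  match d with
  | 1 => ⟨1, 0⟩
  | 2 => ⟨0, 1⟩
  | 3 => ⟨-1, 0⟩
  | 4 => ⟨0, -1⟩
  | 5 => ⟨4, 0⟩
  | 6 => ⟨0, 4⟩
  | 7 => ⟨-4, 0⟩
  | 8 => ⟨0, -4⟩
  | _ => 0

/-- The powers of `i`. -/
def iP (u : ℕ) : GaussianInt :=
  match u % 4 with
  | 0 => ⟨1, 0⟩
  | 1 => ⟨0, 1⟩
  | 2 => ⟨-1, 0⟩
  | _ => ⟨0, -1⟩

/-- The table of the product of a digit by a power of `i`. -/
noncomputable def mulD (u d : ℕ) : ℕ :=
  Nat.land (Nat.shiftRight (nat_lit 0x765832140000000065872143000000005876143200000000876543210) (Nat.mul 4 (Nat.add (Nat.mul 16 u) d))) 15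

theorem gval_mulD : ∀ u : Fin 4, ∀ d : Fin 16, gval (mulD u d) = iP u * gval d := by decide +kernel

/-- A digit. -/
def dig (R q : ℕ) : ℕ := (R >>> (4 * q)) % 16

/-- The vector of a number. -/
def vecN (R : ℕ) : RuVec := fun p => gval (dig R (ixN p))

theorem iP_mod (u : ℕ) : iP (u % 4) = iP u := by
  simp [iP]

theorem iP_vecN {u : ℕ} (hu : u < 4) (R : ℕ) (p : RuIdx) :
    (iP u • vecN R) p = gval (mulD u (dig R (ixN p))) := by
  have h := gval_mulD ⟨u, hu⟩ ⟨dig R (ixN p), Nat.mod_lt _ (by norm_num)⟩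
  exact h.symm

/-! ### Units -/

theorem iP_add (u v : ℕ) : iP (u + v) = iP u * iP v := by
  have h : ∀ a b : Fin 4, iP (a.val + b.val) = iP a.val * iP b.val := by decide +kernel
  have h1 := h ⟨u % 4, Nat.mod_lt _ (by norm_num)⟩ ⟨v % 4, Nat.mod_lt _ (by norm_num)⟩
  simp only at h1
  rw [iP_mod, iP_mod] at h1
  rw [← h1, ← iP_mod (u + v), ← iP_mod (u % 4 + v % 4), Nat.add_mod]

theorem iP_four : iP 4 = 1 := rfl

theorem iP_mul_neg (u : ℕ) (hu : u < 4) : iP u * iP (4 - u) = 1 := by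
  rw [← iP_add, show u + (4 - u) = 4 by omega, iP_four]

end Cfsg.Agent.Lib.RuBridge
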